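import Cfsg.Agent.Lib.ThreeTrans.FiCent.Fuse

/-!
The first centraliser of the presented Fischer group as a double cover inside another group, and its elementary
coordinates: subgroups of order 1024 are conjugate to the coordinate subgroup, and a 22-set of coordinates
without relations of length five is that of the transpositions.
-/

set_option autoImplicit false
set_option maxRecDepth 100000
set_option maxHeartbeats 800000
set_option linter.unusedSectionVars false

namespace CfsgLib.FischerTwoFour.InvCent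

open Subgroup CfsgLib.Presented CfsgLib.Presented.Fi22Pts
open CfsgLib.ThreeTrans CfsgLib.ThreeTrans.FiCent CfsgLib.ThreeTrans.FiCent.FuseData
open CfsgLib.ThreeTrans.FiCent23 (cj)

/-- An elementary subgroup of order at least `1024` through the transposition is conjugate into the
coordinate subgroup. -/
theorem subgroup_conj (E : Subgroup X) (hEH : E ≤ H0) (hT : T 0 ∈ E) (hel : Cfsg.IsElementaryAbelian 2 E)
    (hge : 1024 ≤ Nat.card E) : ∃ k ∈ H0, ∀ x ∈ E, ∃ m < 1024, cc m = k * x * k⁻¹ := by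
  classical
  have := finite_X
  have hp : IsPGroup 2 E := fun g => ⟨1, Subtype.ext (by rw [pow_one]; exact hel.2 _ g.2)⟩
  obtain ⟨B, hB, hfix⟩ := m22.exists_base_fixed hp
  obtain ⟨g, hg⟩ := m22.bases_conj Bc_base hB
  have hcard : Nat.card (closure B) = 1024 := by
    rw [← hg, ← card_closure_Bc, show cj g '' Bc = (MulAut.conj g).toMonoidHom '' Bc from rfl,
      ← MonoidHom.map_closure, Subgroup.card_map_of_injective (MulAut.conj g).injective]
  have hle : E ≤ closure B := by
    by_contra hn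
    have := TypeTop.card_lt_base m22.set hB (fun x hx h1 => classify hx h1) (m22.rel (by norm_num) (by norm_num))
      hel (fun x hx b hb => (hfix x hx) ▸ Set.mem_image_of_mem (cj x) hb) hn
    omega
  have heq : closure B = E := (Subgroup.eq_of_le_of_card_ge hle (by omega)).symm
  have haB : T 0 ∈ B := hB.maximal (T_mem 0) fun x hx => by
    have hxE : x ∈ E := heq ▸ subset_closure hx
    exact congrArg Subtype.val (hel.1.is_comm.comm (⟨T 0, hT⟩ : E) ⟨x, hxE⟩)
  obtain ⟨k, hk, hkB⟩ := to_Bc hB haB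
  exact ⟨k, hk, fun x hx => hkB _ (hle hx)⟩

theorem five_ok : ([3, 5, 65, 932, 995].all fun i => (treePts (kinds.getD 1 (0, []))).contains i) = true := by
  decide +kernel

theorem kind_sizes : ((List.range 5).all fun k => decide (treePts (kinds.getD k (0, []))).Nodup &&
    Nat.beq (treePts (kinds.getD k (0, []))).length ([21, 21, 210, 210, 560].getD k 0) &&
    !(treePts (kinds.getD k (0, []))).contains 1) = true := by
  decide +kernel

/-- A set of 22 coordinates, stable under the stabiliser, through the first and without relations of length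
five, consists of the transpositions. -/
theorem coord_set {P : ℕ → Prop} (hP1 : P 1) (hP0 : ¬ P 0)
    (hinv : ∀ g ∈ H0, ∀ i j, i < 1024 → j < 1024 → g * cc i * g⁻¹ = cc j → (P j ↔ P i))
    (hcard : {i | i < 1024 ∧ P i}.ncard = 22)
    (hfive : ∀ i₁ i₂ i₃ i₄ i₅, P i₁ → P i₂ → P i₃ → P i₄ → P i₅ → i₁ < 1024 → i₂ < 1024 → i₃ < 1024 → i₄ < 1024 →
      i₅ < 1024 → [i₁, i₂, i₃, i₄, i₅].Nodup → i₁ ^^^ i₂ ^^^ i₃ ^^^ i₄ ^^^ i₅ ≠ 0)
    {i : ℕ} (hi : i < 1024) : P i ↔ cc i ∈ D0 := by
  classical
  have kp := pairs_ok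
  have kb := bp_ok
  have ks := kind_sizes
  have kf := five_ok
  simp only [Bool.and_eq_true, List.all_eq_true, Nat.blt_eq, List.mem_range, decide_eq_true_eq, Bool.not_eq_true']
    at kp kb ks kf
  have hkind : ∀ o ∈ kinds, ∀ m ∈ treePts o, m < 1024 ∧ (P m ↔ P o.1) := by
    intro o ho m hm
    refine tree_iff (kp.1.1.2 o ho) P (fun im him x hx => ?_) m hm
    obtain ⟨g, hg, hgc⟩ := images_conj him
    exact hinv g hg x _ hx (xw_lt (kb.1.1.2 im him) x) (hgc x)
  have hlen : kinds.length = 5 := rfl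
  have hmemk : ∀ k, k < 5 → kinds.getD k (0, []) ∈ kinds := fun k hk => by
    rw [List.getD_eq_getElem _ _ (hlen ▸ hk)]; exact List.getElem_mem _
  have hsize : ∀ k, k < 5 → P (kinds.getD k (0, [])).1 →
      [21, 21, 210, 210, 560].getD k 0 ≤ ({i | i < 1024 ∧ P i} \ {1}).ncard := by
    intro k hk hPk
    obtain ⟨⟨hnd, hl⟩, h1⟩ := ks k hk
    rw [← Nat.eq_of_beq_eq_true hl, ← List.toFinset_card_of_nodup hnd, ← Set.ncard_coe_finset]
    refine Set.ncard_le_ncard (fun x hx => ?_) ((Set.finite_lt_nat 1024).subset fun x hx => hx.1.1)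
    rw [Finset.mem_coe, List.mem_toFinset] at hx
    have h := hkind _ (hmemk k hk) x hx
    refine ⟨⟨h.1, h.2.2 hPk⟩, fun e => ?_⟩
    rw [Set.mem_singleton_iff.1 e, ← List.contains_iff_mem, h1] at hx
    exact Bool.noConfusion hx
  have h21 : ({i | i < 1024 ∧ P i} \ {1}).ncard = 21 := by
    rw [Set.ncard_sdiff_singleton_of_mem (show (1 : ℕ) ∈ {i | i < 1024 ∧ P i} from ⟨by norm_num, hP1⟩), hcard]
  have hno : ∀ k, 1 ≤ k → k < 5 → ¬ P (kinds.getD k (0, [])).1 := by
    intro k hk1 hk hPk
    by_cases e : k = 1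
    · subst e
      have hf : ∀ x ∈ [3, 5, 65, 932, 995], x < 1024 ∧ P x := fun x hx => by
        have h := hkind _ (hmemk 1 (by norm_num)) x (List.contains_iff_mem.1 (kf x hx))
        exact ⟨h.1, h.2.2 hPk⟩
      refine hfive 3 5 65 932 995 (hf 3 (by simp)).2 (hf 5 (by simp)).2 (hf 65 (by simp)).2 (hf 932 (by simp)).2
        (hf 995 (by simp)).2 (by norm_num) (by norm_num) (by norm_num) (by norm_num) (by norm_num) (by decide) ?_
      decide
    · have := hsize k hk hPk
      interval_cases k <;> simp_all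
  have hbp : ∀ m, m < 1024 → P m → m = 1 ∨ m ∈ bp := by
    intro m hm hPm
    rcases kind_cases hm with e | e | ⟨o, ho, hmo⟩
    · exact absurd (e ▸ hPm) hP0
    · exact Or.inl e
    · obtain ⟨k, hk, rfl⟩ := List.mem_iff_getElem.1 ho
      rw [← List.getD_eq_getElem _ (0, []) hk] at hmo
      rcases Nat.eq_zero_or_pos k with rfl | hk0
      · exact Or.inr hmo
      · exact absurd ((hkind _ (hmemk k (hlen ▸ hk)) m hmo).2.1 hPm) (hno k hk0 (hlen ▸ hk))
  have hfin : {i | i < 1024 ∧ P i}.Finite := (Set.finite_lt_nat 1024).subset fun x hx => hx.1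
  have heq : insert 1 bp.toFinset = hfin.toFinset := by
    exact (Finset.eq_of_subset_of_card_le (fun x hx => by
      rw [Set.Finite.mem_toFinset] at hx
      rcases hbp x hx.1 hx.2 with e | e <;> simp [e]) (by
      rw [← Set.ncard_eq_toFinset_card _ hfin, hcard]
      exact (Finset.card_insert_le _ _).trans (by
        rw [List.toFinset_card_of_nodup bp_nodup]
        exact le_of_eq (congrArg (· + 1) (Nat.eq_of_beq_eq_true kb.1.1.1.1.1.2))))).symm
  constructor
  · intro h
    rcases hbp i hi h with rfl | h'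
    · rw [cc_one]; exact T_mem 0
    · exact ((mem_bp hi).1 h').1
  · intro h
    by_cases e : cc i = T 0
    · rwa [cc_inj hi (by norm_num) (e.trans cc_one.symm)]
    · have : i ∈ insert 1 bp.toFinset := by simp [(mem_bp hi).2 ⟨h, e⟩]
      rw [heq, Set.Finite.mem_toFinset] at this
      exact this.2

universe u

/-- A perfect double cover of the unitary group inside a group is the first centraliser. -/
theorem exists_theta {W : Type u} [Group W] [Finite W] (N : Subgroup W) {d : W} (hdN : d ∈ N)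
    (hd : orderOf d = 2) (hperf : commutator ↥N = ⊤) (K : Type) [Field K] [Fintype K] (hK : Fintype.card K = 4)
    (σ : ↥N →* Cfsg.PSU 6 K 2) (hσs : Function.Surjective σ) (hσk : σ.ker = (zpowers d).subgroupOf N)
    (hcen : ∀ x ∈ N, Commute x d) : ∃ θ : ↥H0 →* W, Function.Injective θ ∧ θ.range = N ∧ θ aH = d := by
  classical
  have hF : Fintype.card K = 2 ^ 2 := hK.trans (by norm_num)
  obtain ⟨w, -, -, hw⟩ := ThreeTrans.USix.exists_omega hF
  obtain ⟨Γ, _, _, ⟨eΓ⟩⟩ := CfsgLib.SchurCover.exists_small_copy.{0} ↥N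
  have hzc : (zpowers d).subgroupOf N ≤ center ↥N := by
    intro x hx
    obtain ⟨n, hn⟩ := mem_zpowers_iff.1 (mem_subgroupOf.1 hx)
    refine mem_center_iff.2 fun g => Subtype.ext ?_
    show (g : W) * x = x * g
    rw [← hn]
    exact (hcen _ g.2).zpow_right n
  let τ : Γ →* Cfsg.PSU 6 K 2 := σ.comp eΓ.symm.toMonoidHom
  have hτ : Cfsg.IsStemExtension τ := by
    refine ⟨hσs.comp eΓ.symm.surjective, fun x hx => mem_center_iff.2 fun g => eΓ.symm.injective ?_,
      fun x _ => ?_⟩
    · rw [map_mul, map_mul]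
      exact mem_center_iff.1 (hzc (hσk ▸ (show eΓ.symm x ∈ σ.ker from hx))) _
    · have := congrArg (Subgroup.map eΓ.toMonoidHom) hperf
      rw [CfsgLib.SchurCover.map_commutator_eq _ eΓ.surjective, map_top_of_surjective _ eΓ.surjective] at this
      rw [this]; exact mem_top _
  have hcard : Nat.card τ.ker = 2 := by
    rw [show τ.ker = σ.ker.comap eΓ.symm.toMonoidHom from (MonoidHom.comap_ker σ _).symm,
      Subgroup.comap_equiv_eq_map_symm', hσk,
      Subgroup.card_map_of_injective eΓ.symm.symm.injective,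
      Nat.card_congr (subgroupOfEquivOfLe (zpowers_le.2 hdN)).toEquiv, Nat.card_zpowers, hd]
  obtain ⟨e₀⟩ := exists_iso_small hF hw τ hτ hcard
  let θ : ↥H0 ≃* ↥N := (MulEquiv.subgroupCongr H0_eq).trans (e₀.trans eΓ.symm)
  refine ⟨N.subtype.comp θ.toMonoidHom, N.subtype_injective.comp θ.injective, ?_, ?_⟩
  · rw [MonoidHom.range_comp, MonoidHom.range_eq_top.2 θ.surjective, ← MonoidHom.range_eq_map]
    exact range_subtype N
  set v₀ : ↥N := ⟨d, hdN⟩ with hu
  have hu1 : v₀ ≠ 1 := fun e => by
    rw [show d = 1 from congrArg Subtype.val e, orderOf_one] at hd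
    omega
  have huc : v₀ ∈ center ↥N := hzc (mem_subgroupOf.2 (mem_zpowers d))
  set v : CfsgLib.Presented.Fi22UCosets.H := (e₀.trans eΓ.symm).symm v₀ with hv
  have hvc : v ∈ center CfsgLib.Presented.Fi22UCosets.H := by
    refine mem_center_iff.2 fun g => (e₀.trans eΓ.symm).injective ?_
    rw [map_mul, map_mul, hv, MulEquiv.apply_symm_apply]
    exact mem_center_iff.1 huc _
  rw [CfsgLib.Presented.Fi22Unitary.center_eq hF, ← CfsgLib.Schur.MultiplierU62.toPSU_ker hF hw] at hvc
  rcases CfsgLib.Schur.MultiplierU62.toPSU_ker_cases hF hw hvc with h1 | h1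
  · exact absurd ((e₀.trans eΓ.symm).symm.map_eq_one_iff.1 h1) hu1
  · have ha : (MulEquiv.subgroupCongr H0_eq) aH = v := by
      rw [h1]
      exact Subtype.ext CfsgLib.Presented.Fi22Unitary.d0_eq
    show (((e₀.trans eΓ.symm) ((MulEquiv.subgroupCongr H0_eq) aH) : ↥N) : W) = d
    rw [ha, hv, MulEquiv.apply_symm_apply]

end CfsgLib.FischerTwoFour.InvCent
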