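import Cfsg.Agent.Lib.FischerTwoFour.InvCent.Four
import Cfsg.Agent.Lib.FischerTwoFour.InvCent.Coord
import Cfsg.Agent.Lib.ThreeTrans.FiCent.Index.Link
import Cfsg.Agent.Lib.Components.Basic

/-!
Modulo the involution, its centraliser in a group of large Fischer type: the first centraliser of the
presented Fischer group sits with index two in the centraliser of the image of the second pair, matching the
classes and symmetric.
-/

set_option autoImplicit false
set_option linter.unusedSectionVars false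
set_option linter.style.haveILetI false
set_option maxHeartbeats 1000000

namespace CfsgLib.FischerTwoFour.InvCent

open Subgroup CfsgLib.Presented.Fi22Pts
open CfsgLib.ThreeTrans.FiCent (X D0 H0 aH cc cB exists_into cc_inj cc_xor cc_one cc_zero cc_mem_H0 T_zero D0_sq
  conjugatesOf_conj mem_H0_iff D0_ne_one)

variable {G : Type*} [Group G] [Finite G] {z t : G} {Q : Subgroup (Subgroup.centralizer ({z} : Set G))} [Q.Normal]
  (Tr : Triangle z t) {W : Type*} [Group W]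
  (pr : ↥(Subgroup.centralizer ({t} : Set G)) →* W)

namespace Triangle

include Tr

omit [Finite G] in
theorem t_mem : t ∈ Tr.A := by
  have h := Tr.D.mem Tr.a Tr.b
  rwa [Tr.t_eq] at h

omit [Finite G] in
theorem t_sq : t * t = 1 := Tr.D.sq t Tr.t_mem

omit [Finite G] in
theorem t_ne : t ≠ 1 := fun e => Tr.D.ne_one _ _ Tr.hab (Tr.t_eq.trans e)

omit [Finite G] in
theorem A_le : Tr.A ≤ Subgroup.centralizer ({t} : Set G) := fun x hx =>
  mem_centralizer_singleton_iff.2 (Tr.D.comm x hx t Tr.t_mem)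

omit [Finite G] in
/-- Multiplying a pair through the first point by `t`. -/
theorem t_mul (w : Cfsg.GolayPt) : t * Tr.D.p Tr.a w = Tr.D.p Tr.b w := by
  have h := Tr.D.add Tr.a Tr.b w
  rwa [Tr.t_eq] at h

omit [Finite G] in
/-- The elements of `A` with both translates outside the class of `z`. -/
theorem share {x : G} (hx : x ∈ Tr.A) (h1 : x ≠ 1) (ht : x ≠ t) (hz : ¬ IsConj z x) (hzt : ¬ IsConj z (t * x)) :
    ∃ w, w ≠ Tr.a ∧ w ≠ Tr.b ∧ (x = Tr.D.p Tr.a w ∨ x = Tr.D.p Tr.b w) := by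
  obtain ⟨i, j, hij, rfl⟩ := Tr.D.surj x hx h1 hz
  have hs : i = Tr.a ∨ i = Tr.b ∨ j = Tr.a ∨ j = Tr.b := by
    by_contra h
    push Not at h
    exact hzt (by
      have h' := Tr.D.conj_of_disjoint _ _ i j Tr.hab hij h.1 h.2.1 h.2.2.1 h.2.2.2
      rwa [Tr.t_eq] at h')
  rcases hs with rfl | rfl | rfl | rfl
  · exact ⟨j, Ne.symm hij, fun e => ht (by rw [e, Tr.t_eq]), Or.inl rfl⟩
  · exact ⟨j, fun e => ht (by rw [e, Tr.D.symm, Tr.t_eq]), Ne.symm hij, Or.inr rfl⟩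
  · exact ⟨i, hij, fun e => ht (by rw [e, Tr.D.symm, Tr.t_eq]), Or.inl (Tr.D.symm _ _)⟩
  · exact ⟨i, fun e => ht (by rw [e, Tr.t_eq]), hij, Or.inr (Tr.D.symm _ _)⟩

omit [Finite G] in
/-- An element of the normaliser fixing `t` and moving the third point anywhere. -/
theorem exists_move {w : Cfsg.GolayPt} (hwa : w ≠ Tr.a) (hwb : w ≠ Tr.b) :
    ∃ m : G, m * t * m⁻¹ = t ∧ m * Tr.D.p Tr.a Tr.c * m⁻¹ = Tr.D.p Tr.a w := by
  obtain ⟨g, hg, hgL⟩ := CfsgLib.Golay.exists_map_eq (L := [Tr.a, Tr.b, Tr.c]) (L' := [Tr.a, Tr.b, w])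
    (by simp [Tr.hab, Tr.hac, Tr.hbc]) (by simp [Tr.hab, Ne.symm hwa, Ne.symm hwb]) rfl (by simp)
  simp only [List.map_cons, List.map_nil, List.cons.injEq, and_true] at hgL
  obtain ⟨m, hm⟩ := Tr.D.act_surj ⟨g, hg⟩
  refine ⟨m, ?_, by rw [Tr.D.act_p m, hm, hgL.1, hgL.2.2]⟩
  have h := Tr.D.act_p m Tr.a Tr.b
  rwa [hm, hgL.1, hgL.2.1, Tr.t_eq] at h

omit [Finite G] in
/-- An element of the normaliser exchanging the first two points and fixing the third and a fourth. -/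
theorem exists_swap : ∃ (m : G) (e : Cfsg.GolayPt), e ≠ Tr.a ∧ e ≠ Tr.b ∧ e ≠ Tr.c ∧ m * t * m⁻¹ = t ∧
    m * Tr.D.p Tr.a Tr.c * m⁻¹ = Tr.D.p Tr.b Tr.c ∧ m * Tr.D.p Tr.a e * m⁻¹ = Tr.D.p Tr.b e := by
  have four : ∀ a b c : Cfsg.GolayPt, ∃ e, e ≠ a ∧ e ≠ b ∧ e ≠ c := by
    intro a b c
    obtain ⟨e, -, he⟩ := Finset.exists_mem_notMem_of_card_lt_card (s := {a, b, c}) (t := (Finset.univ : Finset Cfsg.GolayPt))
      (lt_of_le_of_lt Finset.card_le_three (by decide))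
    simp only [Finset.mem_insert, Finset.mem_singleton, not_or] at he
    exact ⟨e, he⟩
  obtain ⟨e, hea, heb, hec⟩ := four Tr.a Tr.b Tr.c
  obtain ⟨g, hg, hgL⟩ := CfsgLib.Golay.exists_map_eq (L := [Tr.a, Tr.b, Tr.c, e]) (L' := [Tr.b, Tr.a, Tr.c, e])
    (by simp [Tr.hab, Tr.hac, Tr.hbc, Ne.symm hea, Ne.symm heb, Ne.symm hec])
    (by simp [Ne.symm Tr.hab, Tr.hac, Tr.hbc, Ne.symm hea, Ne.symm heb, Ne.symm hec]) rfl (by simp)
  simp only [List.map_cons, List.map_nil, List.cons.injEq, and_true] at hgL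
  obtain ⟨m, hm⟩ := Tr.D.act_surj ⟨g, hg⟩
  refine ⟨m, e, hea, heb, hec, ?_, by rw [Tr.D.act_p m, hm, hgL.1, hgL.2.2.1],
    by rw [Tr.D.act_p m, hm, hgL.1, hgL.2.2.2]⟩
  have h := Tr.D.act_p m Tr.a Tr.b
  rwa [hm, hgL.1, hgL.2.1, Tr.D.symm Tr.b Tr.a, Tr.t_eq] at h

/-- The 2-part of the centraliser. -/
theorem not_dvd_card (hF : Cfsg.IsOfLargeFischerTypeAt z Q) :
    ¬ 2 ^ 20 ∣ Nat.card ↥(Subgroup.centralizer ({t} : Set G)) := by
  intro h20
  haveI := Fact.mk Nat.prime_two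
  have hA2 : IsPGroup 2 Tr.A := IsPGroup.of_card (n := 11) (by rw [Tr.D.card]; norm_num)
  obtain ⟨S, hS⟩ := (hA2.comap_subtype (K := Subgroup.centralizer ({t} : Set G))).exists_le_sylow
  set S' := (S : Subgroup _).map (Subgroup.centralizer ({t} : Set G)).subtype
  have hAS : Tr.A ≤ S' := fun x hx => ⟨⟨x, Tr.A_le hx⟩, hS hx, rfl⟩
  obtain ⟨P, hP⟩ := (S.2.map (Subgroup.centralizer ({t} : Set G)).subtype).exists_le_sylow
  have hSN : S' ≤ normalizer (Tr.A : Set G) := by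
    rw [eq_thompson hF P (hAS.trans hP) Tr.D.sq Tr.D.card]
    exact hP.trans (le_normalizer_thompson hF P)
  have h20' : 2 ^ 20 ∣ Nat.card S' := by
    rw [card_map_of_injective (Subgroup.centralizer ({t} : Set G)).subtype_injective]
    exact S.pow_dvd_card_of_pow_dvd_card h20
  have hle : S' ≤ normalizer (Tr.A : Set G) ⊓ Subgroup.centralizer ({Tr.D.p Tr.a Tr.b} : Set G) :=
    le_inf hSN (by rw [Tr.t_eq]; exact map_subtype_le _)
  have h := h20'.trans (card_dvd_of_le hle)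
  rw [card_norm_pair Tr.D Tr.hab] at h
  norm_num at h

end Triangle

include Tr in
/-- The identification of the first centraliser with its hypotheses. -/
theorem exists_link [Finite W] (hF : Cfsg.IsOfLargeFischerTypeAt z Q) (hprs : Function.Surjective pr)
    (hprk : ∀ x, pr x = 1 ↔ ((x : G) = 1 ∨ (x : G) = t)) :
    ∃ (d : W) (θ : ↥H0 →* W), CfsgLib.ThreeTrans.FiCent.Index.Link d θ ∧
      (∃ huC : Tr.D.p Tr.a Tr.c ∈ Subgroup.centralizer ({t} : Set G), d = pr ⟨Tr.D.p Tr.a Tr.c, huC⟩) ∧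
      ¬ 2 ^ 19 ∣ Nat.card W ∧
      ∃ n : W, Commute n d ∧ n ∉ θ.range ∧ (∃ x : ↥H0, (x : X) ∈ D0 ∧ x ≠ aH ∧ n * θ x * n⁻¹ = θ x) ∧
        (∀ g, Commute g d → g ∈ θ.range ∨ n⁻¹ * g ∈ θ.range) ∧
        ∀ x : ↥H0, x * x = 1 → x ≠ 1 → ¬ 25 ∣ Nat.card ↥(Subgroup.centralizer ({θ x} : Set W)) := by
  classical
  have htt := Tr.t_sq
  have ht1 := Tr.t_ne
  have htC : t ∈ (Subgroup.centralizer ({t} : Set G)) := mem_centralizer_singleton_iff.2 rfl
  -- fibres
  have heq : ∀ x y : (Subgroup.centralizer ({t} : Set G)), pr x = pr y ↔ ((x : G) = y ∨ (x : G) = t * y) := by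
    intro x y
    rw [← mul_inv_eq_one, ← map_inv, ← map_mul, hprk, Subgroup.coe_mul, InvMemClass.coe_inv, mul_inv_eq_one,
      mul_inv_eq_iff_eq_mul]
  set u := Tr.D.p Tr.a Tr.c with hu
  have huA : u ∈ Tr.A := Tr.D.mem _ _
  have hu2 : u * u = 1 := Tr.D.sq u huA
  have huC : u ∈ (Subgroup.centralizer ({t} : Set G)) := Tr.A_le huA
  have htu : t * u = Tr.D.p Tr.b Tr.c := Tr.t_mul Tr.c
  set XX := Subgroup.centralizer ({t, u} : Set G) with hXX
  have hXmem : ∀ x, x ∈ XX ↔ x * t = t * x ∧ x * u = u * x := fun x => by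
    rw [hXX, mem_centralizer_iff]
    simp only [Set.mem_insert_iff, Set.mem_singleton_iff, forall_eq_or_imp, forall_eq]
    exact ⟨fun h => ⟨h.1.symm, h.2.symm⟩, fun h => ⟨h.1.symm, h.2.symm⟩⟩
  have hXC : XX ≤ (Subgroup.centralizer ({t} : Set G)) := fun x hx => mem_centralizer_singleton_iff.2 ((hXmem x).1 hx).1
  have hAX : Tr.A ≤ XX := fun x hx => (hXmem x).2 ⟨Tr.D.comm x hx t Tr.t_mem, Tr.D.comm x hx u huA⟩
  set d : W := pr ⟨u, huC⟩ with hd
  have hud : u ≠ t * u := fun e => ht1 (by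
    calc t = t * u * u⁻¹ := by group
      _ = 1 := by rw [← e, mul_inv_cancel])
  have hd1 : d ≠ 1 := by
    rw [hd, Ne, hprk]
    rintro (e | e)
    · exact Tr.D.ne_one _ _ Tr.hac e
    · rcases Tr.D.uniq _ _ _ _ Tr.hac Tr.hab (e.trans Tr.t_eq.symm) with ⟨-, h⟩ | ⟨h, -⟩
      · exact Tr.hbc h
      · exact Tr.hac h
  -- lifts commuting with `u` modulo `t`
  have hcomm : ∀ (x y : (Subgroup.centralizer ({t} : Set G))), Commute (pr x) (pr y) ↔
      ((x : G) * y * (x : G)⁻¹ = y ∨ (x : G) * y * (x : G)⁻¹ = t * y) := by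
    intro x y
    rw [commute_iff_eq, ← mul_inv_eq_iff_eq_mul, ← map_inv, ← map_mul, ← map_mul, heq]
    rfl
  -- the swap
  obtain ⟨m, e, hea, heb, hec, hmt, hmu, hme⟩ := Tr.exists_swap
  have hmC : m ∈ (Subgroup.centralizer ({t} : Set G)) := mem_centralizer_singleton_iff.2 (mul_inv_eq_iff_eq_mul.1 hmt)
  rw [← htu] at hmu
  set n : W := pr ⟨m, hmC⟩ with hn
  -- the double cover
  let f : ↥XX →* W := pr.comp (inclusion hXC)
  have hfk : ∀ x : XX, f x = 1 ↔ ((x : G) = 1 ∨ (x : G) = t) := fun x => hprk (inclusion hXC x)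
  obtain ⟨K, _, _, hK, σ, hσs, hσk⟩ := Tr.quot
  have hperfX : commutator ↥XX = ⊤ := CfsgLib.Components.quasisimple_commutator_eq_top Tr.quasi
  have hperf : commutator ↥f.range = ⊤ := by
    have h := congrArg (Subgroup.map f.rangeRestrict) hperfX
    rwa [_root_.commutator_def, map_commutator, map_top_of_surjective _ f.rangeRestrict_surjective, ← _root_.commutator_def] at h
  let σ' : ↥f.range →* Cfsg.PSU 6 K 2 := f.rangeRestrict.liftOfSurjective f.rangeRestrict_surjective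
    ⟨σ, fun x hx => by
      rw [MonoidHom.ker_rangeRestrict, MonoidHom.mem_ker, hfk] at hx
      exact MonoidHom.mem_ker.2 ((hσk x).2 (hx.imp_right Or.inl))⟩
  have hσ'c : ∀ x, σ' (f.rangeRestrict x) = σ x := fun x =>
    MonoidHom.liftOfRightInverse_comp_apply _ _ _ _ x
  have hσ's : Function.Surjective σ' := fun y => by
    obtain ⟨x, rfl⟩ := hσs y
    exact ⟨_, hσ'c x⟩
  have hdf : d ∈ f.range := ⟨⟨u, hAX huA⟩, rfl⟩
  have hd2 : orderOf d = 2 := orderOf_eq_prime (by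
    rw [pow_two, hd, ← map_mul, hprk]; exact Or.inl hu2) hd1
  have hzp : ∀ y, y ∈ zpowers d ↔ y = 1 ∨ y = d := by
    intro y
    rw [mem_zpowers_iff]
    constructor
    · rintro ⟨k, rfl⟩
      rw [← zpow_mod_orderOf, hd2]
      rcases Int.emod_two_eq k with h | h <;> simp [h]
    · rintro (rfl | rfl)
      · exact ⟨0, zpow_zero _⟩
      · exact ⟨1, zpow_one _⟩
  have hσ'k : σ'.ker = (zpowers d).subgroupOf f.range := by
    ext y
    obtain ⟨x, rfl⟩ := f.rangeRestrict_surjective y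
    rw [MonoidHom.mem_ker, hσ'c, hσk, mem_subgroupOf, hzp, MonoidHom.coe_rangeRestrict, hfk]
    show _ ↔ _ ∨ pr (inclusion hXC x) = pr ⟨u, huC⟩
    rw [heq]
    show _ ↔ _ ∨ ((x : G) = u ∨ (x : G) = t * u)
    tauto
  have hcen : ∀ y ∈ f.range, Commute y d := by
    rintro _ ⟨x, rfl⟩
    exact (hcomm (inclusion hXC x) ⟨u, huC⟩).2 (Or.inl (mul_inv_eq_iff_eq_mul.2 ((hXmem x).1 x.2).2))
  obtain ⟨θ₀, hθ₀, hθ₀r, hθ₀d⟩ := exists_theta f.range hdf hd2 hperf K hK σ' hσ's hσ'k hcen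
  -- normality
  have hin : ∀ g : (Subgroup.centralizer ({t} : Set G)), Commute (pr g) d → ∀ x : XX, (g : G) * x * (g : G)⁻¹ ∈ XX := by
    intro g hg x
    obtain ⟨ht', hu'⟩ := (hXmem x).1 x.2
    have hx : ∀ v, (x : G) * v = v * x → (g : G) * x * (g : G)⁻¹ * ((g : G) * v * (g : G)⁻¹) =
        (g : G) * v * (g : G)⁻¹ * ((g : G) * x * (g : G)⁻¹) := fun v hv => by
      calc (g : G) * x * (g : G)⁻¹ * ((g : G) * v * (g : G)⁻¹) = (g : G) * ((x : G) * v) * (g : G)⁻¹ := by group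
        _ = (g : G) * (v * x) * (g : G)⁻¹ := by rw [hv]
        _ = _ := by group
    have hgt : (g : G) * t * (g : G)⁻¹ = t := mul_inv_eq_iff_eq_mul.2 (mem_centralizer_singleton_iff.1 g.2)
    have h1 : Commute ((g : G) * x * (g : G)⁻¹) t := by
      have := hx t ht'; rwa [hgt] at this
    refine (hXmem _).2 ⟨h1.eq, ?_⟩
    rcases (hcomm g ⟨u, huC⟩).1 hg with e' | e'
    · have := hx u hu'; rwa [e'] at this
    · have h2 : Commute ((g : G) * x * (g : G)⁻¹) (t * u) := by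
        have := hx u hu'
        rwa [e'] at this
      have h3 := h1.mul_right h2
      rw [← mul_assoc, htt, one_mul] at h3
      exact h3.eq
  -- the image of `A` in coordinates
  let g₀ : ↥Tr.A →* W := pr.comp (inclusion Tr.A_le)
  have hcardA : 1024 ≤ Nat.card g₀.range := by
    have h := Subgroup.card_eq_card_quotient_mul_card_subgroup g₀.ker
    rw [Nat.card_congr (QuotientGroup.quotientKerEquivRange g₀).toEquiv, Tr.D.card] at h
    have hk : Nat.card g₀.ker ≤ 2 := by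
      have hsub : ∀ y : g₀.ker, ((y : ↥Tr.A) : G) ∈ ({1, t} : Finset G) := fun y => by
        rcases (hprk _).1 y.2 with e' | e'
        · exact Finset.mem_insert.2 (Or.inl e')
        · exact Finset.mem_insert.2 (Or.inr (Finset.mem_singleton.2 e'))
      refine (Nat.card_le_card_of_injective (fun y : g₀.ker => (⟨_, hsub y⟩ : ({1, t} : Finset G))) ?_).trans ?_
      · intro y y' e'
        exact Subtype.ext (Subtype.ext (congrArg (fun w : ({1, t} : Finset G) => (w : G)) e'))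
      · rw [Nat.card_eq_finsetCard]; exact Finset.card_le_two
    have := Nat.mul_le_mul_left (Nat.card g₀.range) hk
    omega
  have hAr : g₀.range ≤ θ₀.range := by
    rw [hθ₀r]
    rintro _ ⟨x, rfl⟩
    exact ⟨⟨x, hAX x.2⟩, rfl⟩
  set E : Subgroup X := (g₀.range.comap θ₀).map H0.subtype with hE
  have hEel : Cfsg.IsElementaryAbelian 2 E := by
    have hc : ∀ y ∈ g₀.range, ∀ y' ∈ g₀.range, y * y' = y' * y := by
      rintro _ ⟨x, rfl⟩ _ ⟨x', rfl⟩
      rw [← map_mul, ← map_mul, show x * x' = x' * x from Subtype.ext (Tr.D.comm _ x.2 _ x'.2)]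
    refine ⟨⟨⟨fun x y => ?_⟩⟩, ?_⟩
    · obtain ⟨x', hx', ex⟩ := x.2
      obtain ⟨y', hy', ey⟩ := y.2
      have h : x' * y' = y' * x' := hθ₀ (by rw [map_mul, map_mul]; exact hc _ hx' _ hy')
      refine Subtype.ext ?_
      show (x : X) * y = y * x
      rw [← ex, ← ey]
      exact congrArg Subtype.val h
    · rintro _ ⟨x, hx, rfl⟩
      obtain ⟨w, hw⟩ := hx
      have h : x * x = 1 := hθ₀ (by
        rw [map_mul, map_one, ← hw, ← map_mul, show w * w = 1 from Subtype.ext (Tr.D.sq _ w.2), map_one])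
      rw [← map_pow, pow_two, h, map_one]
  have hge : 1024 ≤ Nat.card E := by
    rw [hE, card_map_of_injective H0.subtype_injective]
    refine hcardA.trans (le_of_eq ?_)
    refine (Nat.card_congr (Equiv.ofBijective (fun x : g₀.range.comap θ₀ => (⟨θ₀ x, x.2⟩ : g₀.range))
      ⟨fun x y h => Subtype.ext (hθ₀ (congrArg Subtype.val h)), fun y => ?_⟩)).symm
    obtain ⟨x, hx⟩ := hAr y.2
    exact ⟨⟨x, show θ₀ x ∈ g₀.range by rw [hx]; exact y.2⟩, Subtype.ext hx⟩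
  have hTE : T 0 ∈ E := by
    refine ⟨aH, ?_, T_zero.symm⟩
    show θ₀ aH ∈ g₀.range
    rw [hθ₀d]
    exact ⟨⟨u, huA⟩, rfl⟩
  obtain ⟨k, hk, hkE⟩ := subgroup_conj E (by rintro _ ⟨x, -, rfl⟩; exact x.2) hTE hEel hge
  choose μ hμ hμc using fun x : E => hkE x x.2
  let μ' : E → Fin 1024 := fun x => ⟨μ x, hμ x⟩
  have hμinj : Function.Injective μ' := fun x y h => by
    have h' : cc (μ x) = cc (μ y) := congrArg cc (congrArg Fin.val h)
    rw [hμc, hμc] at h'
    exact Subtype.ext (mul_left_cancel (mul_right_cancel h'))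
  have hμs : Function.Surjective μ' :=
    (hμinj.bijective_of_nat_card_le (by rw [Nat.card_fin]; exact hge)).2
  set kH : ↥H0 := ⟨k, hk⟩ with hkH
  let θ : ↥H0 →* W := θ₀.comp (MulAut.conj kH⁻¹).toMonoidHom
  have hθinj : Function.Injective θ := hθ₀.comp (MulAut.conj kH⁻¹).injective
  have hθr : θ.range = f.range := by
    rw [← hθ₀r, MonoidHom.range_comp, MonoidHom.range_eq_top.2 (MulAut.conj kH⁻¹).surjective,
      ← MonoidHom.range_eq_map]
  have hθd : θ aH = d := by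
    show θ₀ (kH⁻¹ * aH * kH⁻¹⁻¹) = d
    have haH : kH * aH = aH * kH := Subtype.ext (by
      show k * CfsgLib.ThreeTrans.Inst.FiTwentyTwo.a = CfsgLib.ThreeTrans.Inst.FiTwentyTwo.a * k
      rw [← T_zero]; exact (mem_H0_iff.1 hk).eq)
    rw [inv_inv, mul_assoc, ← haH, inv_mul_cancel_left, hθ₀d]
  -- coordinates of `A`
  have hcoord : ∀ i, i < 1024 → ∃ x : ↥Tr.A, θ (cB i) = g₀ x := by
    intro i hi
    obtain ⟨x, hx⟩ := hμs ⟨i, hi⟩
    obtain ⟨x', hx', ex⟩ := x.2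
    obtain ⟨w, hw⟩ := hx'
    refine ⟨w, ?_⟩
    rw [hw]
    show θ₀ (kH⁻¹ * cB i * kH⁻¹⁻¹) = θ₀ x'
    congr 1
    refine Subtype.ext ?_
    show k⁻¹ * cc i * k⁻¹⁻¹ = (x' : X)
    have hi' : μ x = i := congrArg Fin.val hx
    rw [← hi', hμc]
    show _ = H0.subtype x'
    rw [ex]
    group
  have hcoord' : ∀ x : ↥Tr.A, ∃ i, i < 1024 ∧ θ (cB i) = g₀ x := by
    intro x
    obtain ⟨x', hx'⟩ := hAr ⟨x, rfl⟩
    let xE : E := ⟨x', x', show θ₀ x' ∈ g₀.range by rw [hx']; exact ⟨x, rfl⟩, rfl⟩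
    refine ⟨μ xE, hμ xE, ?_⟩
    rw [← hx']
    show θ₀ (kH⁻¹ * cB (μ xE) * kH⁻¹⁻¹) = θ₀ x'
    congr 1
    refine Subtype.ext ?_
    show k⁻¹ * cc (μ xE) * k⁻¹⁻¹ = (x' : X)
    rw [hμc]
    show k⁻¹ * (k * (x' : X) * k⁻¹) * k⁻¹⁻¹ = (x' : X)
    group
  -- conjugates of `d` in the image of `A`
  have hcl : ∀ x : ↥Tr.A, g₀ x ∈ conjugatesOf d ↔
      ∃ w, w ≠ Tr.a ∧ w ≠ Tr.b ∧ g₀ x = pr ⟨Tr.D.p Tr.a w, Tr.A_le (Tr.D.mem _ _)⟩ := by
    intro x
    constructor
    · intro hx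
      obtain ⟨gW, hg⟩ := isConj_iff.1 hx
      obtain ⟨g, rfl⟩ := hprs gW
      rw [hd, ← map_inv, ← map_mul, ← map_mul] at hg
      have hgt : (g : G) * t * (g : G)⁻¹ = t := mul_inv_eq_iff_eq_mul.2 (mem_centralizer_singleton_iff.1 g.2)
      have hzu : ∀ v, ¬ IsConj z v → ¬ IsConj z ((g : G) * v * (g : G)⁻¹) := fun v hv h =>
        hv (h.trans (isConj_iff.2 ⟨(g : G), rfl⟩).symm)
      have hzu1 : ¬ IsConj z u := Tr.D.not_conj _ _ Tr.hac
      have hzu2 : ¬ IsConj z (t * u) := by rw [htu]; exact Tr.D.not_conj _ _ Tr.hbc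
      have hx1 : (x : G) ≠ 1 ∧ (x : G) ≠ t := by
        have : g₀ x ≠ 1 := fun e' => hd1 (by
          rw [e'] at hx
          exact conj_eq_one_iff.1 (isConj_iff.1 hx).choose_spec)
        rw [Ne, show g₀ x = pr (inclusion Tr.A_le x) from rfl, hprk, not_or] at this
        exact this
      have hnz : ¬ IsConj z (x : G) ∧ ¬ IsConj z (t * x) := by
        have hgg : (g : G) * (t * u) * (g : G)⁻¹ = t * ((g : G) * u * (g : G)⁻¹) := by
          calc (g : G) * (t * u) * (g : G)⁻¹ = (g : G) * t * (g : G)⁻¹ * ((g : G) * u * (g : G)⁻¹) := by group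
            _ = _ := by rw [hgt]
        rcases (heq _ _).1 hg.symm with e' | e' <;> (change (x : G) = _ at e')
        · refine ⟨?_, ?_⟩ <;> rw [e']
          · exact hzu u hzu1
          · show ¬ IsConj z (t * ((g : G) * u * (g : G)⁻¹))
            rw [← hgg]; exact hzu _ hzu2
        · refine ⟨?_, ?_⟩ <;> rw [e']
          · show ¬ IsConj z (t * ((g : G) * u * (g : G)⁻¹))
            rw [← hgg]; exact hzu _ hzu2
          · rw [← mul_assoc, htt, one_mul]; exact hzu u hzu1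
      obtain ⟨w, hwa, hwb, hw⟩ := Tr.share x.2 hx1.1 hx1.2 hnz.1 hnz.2
      refine ⟨w, hwa, hwb, (heq _ _).2 ?_⟩
      rcases hw with e' | e'
      · exact Or.inl e'
      · exact Or.inr (e'.trans (Tr.t_mul w).symm)
    · rintro ⟨w, hwa, hwb, hw⟩
      obtain ⟨g, hgt, hgu⟩ := Tr.exists_move hwa hwb
      rw [hw]
      refine isConj_iff.2 ⟨pr ⟨g, mem_centralizer_singleton_iff.2 (mul_inv_eq_iff_eq_mul.1 hgt)⟩, ?_⟩
      rw [hd, ← map_inv, ← map_mul, ← map_mul]
      exact congrArg pr (Subtype.ext hgu)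
  have hq_inj : ∀ w w' : Cfsg.GolayPt, w ≠ Tr.a → w ≠ Tr.b → w' ≠ Tr.a → w' ≠ Tr.b →
      pr ⟨Tr.D.p Tr.a w, Tr.A_le (Tr.D.mem _ _)⟩ = pr ⟨Tr.D.p Tr.a w', Tr.A_le (Tr.D.mem _ _)⟩ → w = w' := by
    intro w w' hwa hwb hwa' hwb' h
    rcases (heq _ _).1 h with e' | e'
    · rcases Tr.D.uniq _ _ _ _ (Ne.symm hwa) (Ne.symm hwa') e' with ⟨-, h'⟩ | ⟨h', -⟩
      · exact h'.symm
      · exact absurd h'.symm hwa
    · have e2 : Tr.D.p Tr.a w = Tr.D.p Tr.b w' := e'.trans (Tr.t_mul w')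
      rcases Tr.D.uniq _ _ _ _ (Ne.symm hwa) (Ne.symm hwb') e2 with ⟨h', -⟩ | ⟨h', -⟩
      · exact absurd h'.symm Tr.hab
      · exact absurd h'.symm hwb
  -- the coordinates of the conjugates
  set Pd : ℕ → Prop := fun i => θ (cB i) ∈ conjugatesOf d with hPd
  have hcard : {i | i < 1024 ∧ Pd i}.ncard = 22 := by
    have h22 : ((Finset.univ : Finset Cfsg.GolayPt) \ {Tr.a, Tr.b}).card = 22 := by
      rw [Finset.card_sdiff_of_subset (Finset.subset_univ _), Finset.card_pair Tr.hab]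
      decide
    have himg : (fun i => θ (cB i)) '' {i | i < 1024 ∧ Pd i} =
        (fun w => pr ⟨Tr.D.p Tr.a w, Tr.A_le (Tr.D.mem _ _)⟩) ''
          (↑((Finset.univ : Finset Cfsg.GolayPt) \ {Tr.a, Tr.b}) : Set Cfsg.GolayPt) := by
      ext y
      constructor
      · rintro ⟨i, ⟨hi, hP⟩, rfl⟩
        obtain ⟨x, hx⟩ := hcoord i hi
        obtain ⟨w, hwa, hwb, hw⟩ := (hcl x).1 (hx ▸ hP)
        exact ⟨w, by simp [hwa, hwb], hw.symm.trans hx.symm⟩
      · rintro ⟨w, hw, rfl⟩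
        simp only [Finset.coe_sdiff, Finset.coe_univ, Finset.coe_insert, Finset.coe_singleton, Set.mem_sdiff,
          Set.mem_univ, true_and, Set.mem_insert_iff, Set.mem_singleton_iff, not_or] at hw
        obtain ⟨i, hi, hie⟩ := hcoord' ⟨Tr.D.p Tr.a w, Tr.D.mem _ _⟩
        refine ⟨i, ⟨hi, ?_⟩, hie⟩
        show θ (cB i) ∈ conjugatesOf d
        rw [hie]
        exact (hcl _).2 ⟨w, hw.1, hw.2, rfl⟩
    rw [← Set.ncard_image_of_injOn (f := fun i => θ (cB i)) (fun i hi j hj h =>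
      cc_inj hi.1 hj.1 (congrArg Subtype.val (hθinj h))), himg, Set.ncard_image_of_injOn fun w hw w' hw' h => ?_,
      Set.ncard_coe_finset, h22]
    simp only [Finset.coe_sdiff, Finset.coe_univ, Finset.coe_insert, Finset.coe_singleton, Set.mem_sdiff,
      Set.mem_univ, true_and, Set.mem_insert_iff, Set.mem_singleton_iff, not_or] at hw hw'
    exact hq_inj w w' hw.1 hw.2 hw'.1 hw'.2 h
  have hcls0 : ∀ {i : ℕ}, i < 1024 → (Pd i ↔ cc i ∈ D0) := by
    refine fun {i} hi => coord_set ?_ ?_ ?_ hcard ?_ hi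
    · show θ (cB 1) ∈ conjugatesOf d
      rw [show cB 1 = aH from Subtype.ext (cc_one.trans T_zero), hθd]
      exact mem_conjugatesOf_self
    · intro h
      change θ (cB 0) ∈ conjugatesOf d at h
      rw [show cB 0 = 1 from Subtype.ext cc_zero, map_one] at h
      exact hd1 (conj_eq_one_iff.1 (isConj_iff.1 h).choose_spec)
    · intro g hg i j _ _ h
      have e' : cB j = (⟨g, hg⟩ : ↥H0) * cB i * (⟨g, hg⟩ : ↥H0)⁻¹ := Subtype.ext h.symm
      simp only [hPd, e', map_mul, map_inv, conjugatesOf_conj]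
    · intro i₁ i₂ i₃ i₄ i₅ p₁ p₂ p₃ p₄ p₅ l₁ l₂ l₃ l₄ l₅ hnd hx
      have hget : ∀ i, i < 1024 → Pd i →
          ∃ w, w ≠ Tr.a ∧ w ≠ Tr.b ∧ θ (cB i) = pr ⟨Tr.D.p Tr.a w, Tr.A_le (Tr.D.mem _ _)⟩ := fun i hi hP => by
        obtain ⟨x, hx⟩ := hcoord i hi
        obtain ⟨w, hwa, hwb, hw⟩ := (hcl x).1 (hx ▸ hP)
        exact ⟨w, hwa, hwb, hx.trans hw⟩
      obtain ⟨w₁, a₁, b₁, e₁⟩ := hget _ l₁ p₁
      obtain ⟨w₂, a₂, b₂, e₂⟩ := hget _ l₂ p₂
      obtain ⟨w₃, a₃, b₃, e₃⟩ := hget _ l₃ p₃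
      obtain ⟨w₄, a₄, b₄, e₄⟩ := hget _ l₄ p₄
      obtain ⟨w₅, a₅, b₅, e₅⟩ := hget _ l₅ p₅
      have hne : ∀ {i j : ℕ} {w w' : Cfsg.GolayPt} {hw : Tr.D.p Tr.a w ∈ (Subgroup.centralizer ({t} : Set G))} {hw' : Tr.D.p Tr.a w' ∈ (Subgroup.centralizer ({t} : Set G))}, i < 1024 →
          j < 1024 → θ (cB i) = pr ⟨_, hw⟩ → θ (cB j) = pr ⟨_, hw'⟩ → i ≠ j → w ≠ w' := by
        intro i j w w' hw hw' hi hj h h' hij e'
        subst e'
        exact hij (cc_inj hi hj (congrArg Subtype.val (hθinj (h.trans h'.symm))))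
      simp only [List.nodup_cons, List.mem_cons, List.not_mem_nil, or_false, not_or] at hnd
      obtain ⟨⟨n12, n13, n14, n15⟩, ⟨n23, n24, n25⟩, ⟨n34, n35⟩, n45, -⟩ := hnd
      have w12 := hne l₁ l₂ e₁ e₂ n12
      have w13 := hne l₁ l₃ e₁ e₃ n13
      have w14 := hne l₁ l₄ e₁ e₄ n14
      have w15 := hne l₁ l₅ e₁ e₅ n15
      have w23 := hne l₂ l₃ e₂ e₃ n23
      have w24 := hne l₂ l₄ e₂ e₄ n24
      have w25 := hne l₂ l₅ e₂ e₅ n25
      have w34 := hne l₃ l₄ e₃ e₄ n34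
      have w35 := hne l₃ l₅ e₃ e₅ n35
      have w45 := hne l₄ l₅ e₄ e₅ n45
      have h0 : θ (cB (i₁ ^^^ i₂ ^^^ i₃ ^^^ i₄ ^^^ i₅)) = 1 := by
        rw [hx, show cB 0 = 1 from Subtype.ext cc_zero, map_one]
      have hsplit : cB (i₁ ^^^ i₂ ^^^ i₃ ^^^ i₄ ^^^ i₅) = cB i₁ * cB i₂ * cB i₃ * cB i₄ * cB i₅ :=
        Subtype.ext (by simp only [cc_xor, Subgroup.coe_mul])
      rw [hsplit, map_mul, map_mul, map_mul, map_mul, e₁, e₂, e₃, e₄, e₅, ← map_mul, ← map_mul, ← map_mul,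
        ← map_mul, hprk] at h0
      have hprod : Tr.D.p Tr.a w₁ * Tr.D.p Tr.a w₂ * Tr.D.p Tr.a w₃ * Tr.D.p Tr.a w₄ * Tr.D.p Tr.a w₅ =
          Tr.D.p w₁ w₂ * Tr.D.p w₃ w₄ * Tr.D.p Tr.a w₅ := by
        rw [← Tr.D.add Tr.a w₁ w₂, ← Tr.D.add Tr.a w₃ w₄]
        group
      rcases h0 with h0 | h0 <;> change Tr.D.p Tr.a w₁ * Tr.D.p Tr.a w₂ * Tr.D.p Tr.a w₃ * Tr.D.p Tr.a w₄ * Tr.D.p Tr.a w₅ = _ at h0
        <;> rw [hprod] at h0
      · exact Tr.D.three w₁ w₂ w₃ w₄ Tr.a w₅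
          (by simp [w12, w13, w14, w15, w23, w24, w25, w34, w35, w45, a₁, a₂, a₃, a₄, Ne.symm a₅]) h0
      · refine Tr.D.three w₁ w₂ w₃ w₄ Tr.b w₅
          (by simp [w12, w13, w14, w15, w23, w24, w25, w34, w35, w45, b₁, b₂, b₃, b₄, Ne.symm b₅]) ?_
        rw [← Tr.t_mul w₅, ← mul_assoc,
          Tr.D.comm _ (mul_mem (Tr.D.mem w₁ w₂) (Tr.D.mem w₃ w₄)) t Tr.t_mem, mul_assoc, h0, htt]
  have hpull : ∀ x : ↥H0, x * x = 1 → ∃ (k' : ↥H0) (i : ℕ), i < 1024 ∧ cB i = k' * x * k'⁻¹ := fun x hx => by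
    obtain ⟨k', hk', i, hi, e'⟩ := exists_into x.2 (congrArg Subtype.val hx)
    exact ⟨⟨k', hk'⟩, i, hi, Subtype.ext e'⟩
  have hd22 : d * d = 1 := by rw [← pow_two, ← hd2]; exact pow_orderOf_eq_one d
  have L : CfsgLib.ThreeTrans.FiCent.Index.Link d θ := by
    refine ⟨hθinj, hθd, fun x => ?_, fun gW hg x => ?_, fun gW hg hgx => ?_, fun x hxD hxa gW hg y hy => ?_⟩
    · by_cases hx2 : x * x = 1
      · obtain ⟨k', i, hi, e'⟩ := hpull x hx2
        have h1 : θ x ∈ conjugatesOf d ↔ Pd i := by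
          simp only [hPd, e', map_mul, map_inv, conjugatesOf_conj]
        have e'' : cc i = (k' : X) * x * (k' : X)⁻¹ := congrArg Subtype.val e'
        rw [h1, hcls0 hi, e'', CfsgLib.ThreeTrans.FiCent.D0_conj]
      · refine iff_of_false (fun h => hx2 (hθinj ?_)) fun h => hx2 (Subtype.ext (D0_sq h))
        obtain ⟨g, hg⟩ := isConj_iff.1 h
        rw [map_mul, map_one, ← hg, show g * d * g⁻¹ * (g * d * g⁻¹) = g * (d * d) * g⁻¹ by group, hd22, mul_one,
          mul_inv_cancel]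
    · obtain ⟨g, rfl⟩ := hprs gW
      obtain ⟨ξ, hξ⟩ : θ x ∈ f.range := hθr ▸ ⟨x, rfl⟩
      have hmem : pr g * θ x * (pr g)⁻¹ ∈ θ.range := by
        rw [hθr, ← hξ]
        exact ⟨⟨_, hin g hg ξ⟩, by
          show pr _ = pr g * pr (inclusion hXC ξ) * (pr g)⁻¹
          rw [← map_inv, ← map_mul, ← map_mul]; rfl⟩
      obtain ⟨y, hy⟩ := hmem
      exact ⟨y, hy.symm⟩
    · obtain ⟨g, rfl⟩ := hprs gW
      have hgX : ∀ ξ : XX, Commute (pr g) (pr (inclusion hXC ξ)) := fun ξ => by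
        obtain ⟨y, hy⟩ : f ξ ∈ θ.range := hθr ▸ ⟨ξ, rfl⟩
        have h := hgx y
        rw [hy] at h
        exact h
      -- commutators with a perfect group
      let χ : ↥XX →* ↥(zpowers t) := MonoidHom.mk' (fun ξ => ⟨(g : G) * ξ * (g : G)⁻¹ * (ξ : G)⁻¹, by
          rcases (hcomm g (inclusion hXC ξ)).1 (hgX ξ) with e' | e' <;>
            (change (g : G) * ξ * (g : G)⁻¹ = _ at e'; rw [e'])
          · simp
          · show t * (ξ : G) * (ξ : G)⁻¹ ∈ zpowers t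
            rw [mul_inv_cancel_right]; exact mem_zpowers t⟩) fun ξ η => Subtype.ext (by
          show (g : G) * ((ξ : G) * η) * (g : G)⁻¹ * ((ξ : G) * η)⁻¹ =
            (g : G) * ξ * (g : G)⁻¹ * (ξ : G)⁻¹ * ((g : G) * η * (g : G)⁻¹ * (η : G)⁻¹)
          have h : Commute ((ξ : G)⁻¹) ((g : G) * η * (g : G)⁻¹ * (η : G)⁻¹) := by
            rcases (hcomm g (inclusion hXC η)).1 (hgX η) with e' | e' <;>
              (change (g : G) * η * (g : G)⁻¹ = _ at e'; rw [e'])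
            · simp
            · show Commute ((ξ : G)⁻¹) (t * (η : G) * (η : G)⁻¹)
              rw [mul_inv_cancel_right]
              exact (show Commute (ξ : G) t from ((hXmem ξ).1 ξ.2).1).inv_left
          calc (g : G) * ((ξ : G) * η) * (g : G)⁻¹ * ((ξ : G) * η)⁻¹
              = (g : G) * ξ * (g : G)⁻¹ * ((g : G) * η * (g : G)⁻¹ * (η : G)⁻¹ * (ξ : G)⁻¹) := by group
            _ = (g : G) * ξ * (g : G)⁻¹ * ((ξ : G)⁻¹ * ((g : G) * η * (g : G)⁻¹ * (η : G)⁻¹)) := by rw [h.eq]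
            _ = _ := by group)
      have hχ : χ.ker = ⊤ := by
        refine top_unique (hperfX ▸ ?_)
        rw [_root_.commutator_def, commutator_le]
        intro ξ _ η _
        rw [MonoidHom.mem_ker, map_commutatorElement, commutatorElement_eq_one_iff_mul_comm]
        refine Subtype.ext ?_
        obtain ⟨i, hi⟩ := (χ ξ).2
        obtain ⟨j, hj⟩ := (χ η).2
        show ((χ ξ : ↥(zpowers t)) : G) * χ η = χ η * χ ξ
        rw [← hi, ← hj]
        exact (zpow_mul_comm t i j)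
      have hcent : ∀ ξ : XX, (g : G) * ξ = ξ * g := fun ξ => by
        have h : χ ξ = 1 := MonoidHom.mem_ker.1 (hχ.ge (mem_top ξ))
        exact mul_inv_eq_iff_eq_mul.1 (mul_inv_eq_one.1 (congrArg Subtype.val h))
      have hgXX : (g : G) ∈ XX := (hXmem _).2
        ⟨mem_centralizer_singleton_iff.1 g.2, hcent ⟨u, hAX huA⟩⟩
      set ξ : XX := ⟨g, hgXX⟩
      have hσc : σ ξ ∈ center (Cfsg.PSU 6 K 2) := mem_center_iff.2 fun y => by
        obtain ⟨η, rfl⟩ := hσs y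
        rw [← map_mul, ← map_mul, show η * ξ = ξ * η from Subtype.ext (hcent η).symm]
      have hσ1 : σ ξ = 1 := by
        haveI : IsSimpleGroup (Cfsg.PSU 6 K 2) := CfsgLib.ClassicalGroups.psu_isSimpleGroup (q := 2) (n := 6) (hK.trans (by norm_num)) (by norm_num) (by norm_num)
        rcases (inferInstance : (center (Cfsg.PSU 6 K 2)).Normal).eq_bot_or_eq_top with h | h
        · rwa [h, mem_bot] at hσc
        · exfalso
          have hcm : commutator (Cfsg.PSU 6 K 2) = ⊤ := by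
            have := congrArg (Subgroup.map σ) hperfX
            rwa [_root_.commutator_def, map_commutator, map_top_of_surjective _ hσs, ← _root_.commutator_def] at this
          have : commutator (Cfsg.PSU 6 K 2) = ⊥ := by
            rw [_root_.commutator_def, commutator_eq_bot_iff_le_centralizer, ← h]
            exact centralizer_univ.ge.trans (centralizer_le (Set.subset_univ _))
          exact bot_ne_top (this.symm.trans hcm)
      show pr g = 1 ∨ pr g = d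
      rw [hprk, hd, heq]
      rcases (hσk ξ).1 hσ1 with e' | e' | e' | e'
      · exact Or.inl (Or.inl e')
      · exact Or.inl (Or.inr e')
      · exact Or.inr (Or.inl e')
      · exact Or.inr (Or.inr e')
    · obtain ⟨k', i, hi, e'⟩ := hpull x (Subtype.ext (D0_sq hxD))
      have hPi : Pd i := (hcls0 hi).2 (by
        rw [show cc i = (k' : X) * x * (k' : X)⁻¹ from congrArg Subtype.val e',
          CfsgLib.ThreeTrans.FiCent.D0_conj]
        exact hxD)
      obtain ⟨x', hx'⟩ := hcoord i hi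
      obtain ⟨w, hwa, hwb, hw⟩ := (hcl x').1 (hx' ▸ hPi)
      have hfw : θ k' * θ x * (θ k')⁻¹ = pr ⟨Tr.D.p Tr.a w, Tr.A_le (Tr.D.mem _ _)⟩ := by
        rw [← map_inv, ← map_mul, ← map_mul, ← e', hx', hw]
      have hwc : w ≠ Tr.c := by
        rintro rfl
        refine hxa (hθinj ?_)
        have hk' : θ k' * d * (θ k')⁻¹ = d := by
          rw [← hθd, ← map_inv, ← map_mul, ← map_mul]
          congr 1
          refine Subtype.ext ?_
          show (k' : X) * CfsgLib.ThreeTrans.Inst.FiTwentyTwo.a * (k' : X)⁻¹ = CfsgLib.ThreeTrans.Inst.FiTwentyTwo.a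
          rw [← T_zero, (mem_H0_iff.1 k'.2).eq, mul_inv_cancel_right]
        rw [hθd]
        exact mul_left_cancel (mul_right_cancel (hfw.trans hk'.symm))
      obtain ⟨m', hm't, hm'u⟩ := Tr.exists_move hwa hwb
      have hm'C : m' ∈ (Subgroup.centralizer ({t} : Set G)) := mem_centralizer_singleton_iff.2 (mul_inv_eq_iff_eq_mul.1 hm't)
      -- the element commuting with the image
      have hcy : Commute (θ k' * θ y * (θ k')⁻¹) (pr ⟨Tr.D.p Tr.a w, Tr.A_le (Tr.D.mem _ _)⟩) := by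
        rw [← hfw]
        exact ((show Commute y x from Subtype.ext hy.eq).map θ).map (MulAut.conj (θ k')).toMonoidHom
      obtain ⟨ξ, hξ⟩ : θ k' * θ y * (θ k')⁻¹ ∈ f.range := hθr ▸ ⟨k' * y * k'⁻¹, by simp⟩
      rw [← hξ] at hcy
      have hfix : (ξ : G) * Tr.D.p Tr.a w * (ξ : G)⁻¹ = Tr.D.p Tr.a w := by
        rcases (hcomm (inclusion hXC ξ) ⟨_, _⟩).1 hcy with e'' | e''
        · exact e''
        · exfalso
          change (ξ : G) * Tr.D.p Tr.a w * (ξ : G)⁻¹ = t * Tr.D.p Tr.a w at e''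
          have hux : (ξ : G) * u * (ξ : G)⁻¹ = u := mul_inv_eq_iff_eq_mul.2 ((hXmem ξ).1 ξ.2).2
          have h1 : (ξ : G) * Tr.D.p Tr.c w * (ξ : G)⁻¹ = t * Tr.D.p Tr.c w := by
            rw [← Tr.D.add Tr.a Tr.c w,
              show (ξ : G) * (Tr.D.p Tr.a Tr.c * Tr.D.p Tr.a w) * (ξ : G)⁻¹ =
                (ξ : G) * u * (ξ : G)⁻¹ * ((ξ : G) * Tr.D.p Tr.a w * (ξ : G)⁻¹) by rw [hu]; group,
              hux, e'', ← mul_assoc, ← mul_assoc, Tr.D.comm u huA t Tr.t_mem]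
          have h2 : IsConj z (t * Tr.D.p Tr.c w) := by
            have h' := Tr.D.conj_of_disjoint _ _ _ _ Tr.hab (Ne.symm hwc) (Ne.symm Tr.hac) (Ne.symm Tr.hbc) hwa hwb
            rwa [Tr.t_eq] at h'
          rw [← h1] at h2
          exact Tr.D.not_conj _ _ (Ne.symm hwc) (h2.trans (isConj_iff.2 ⟨(ξ : G), rfl⟩).symm)
      have hξ' : m'⁻¹ * ξ * m' ∈ XX := by
        obtain ⟨ht', hu'⟩ := (hXmem ξ).1 ξ.2
        refine (hXmem _).2 ⟨?_, ?_⟩
        · calc m'⁻¹ * ξ * m' * t = m'⁻¹ * ((ξ : G) * (m' * t * m'⁻¹)) * m' := by group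
            _ = m'⁻¹ * ((m' * t * m'⁻¹) * ξ) * m' := by rw [hm't, ht']
            _ = t * (m'⁻¹ * ξ * m') := by group
        · calc m'⁻¹ * ξ * m' * u = m'⁻¹ * ((ξ : G) * (m' * u * m'⁻¹)) * m' := by group
            _ = m'⁻¹ * ((m' * u * m'⁻¹) * ξ) * m' := by rw [hm'u, mul_inv_eq_iff_eq_mul.1 hfix]
            _ = u * (m'⁻¹ * ξ * m') := by group
      obtain ⟨y₁, hy₁⟩ : f ⟨_, hξ'⟩ ∈ θ.range := hθr ▸ ⟨_, rfl⟩
      set g₁ : W := pr ⟨m', hm'C⟩
      have hy1' : θ k' * θ y * (θ k')⁻¹ = g₁ * θ y₁ * g₁⁻¹ := by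
        rw [← hξ, hy₁]
        show pr (inclusion hXC ξ) = pr ⟨m', hm'C⟩ * pr _ * (pr ⟨m', hm'C⟩)⁻¹
        rw [← map_inv, ← map_mul, ← map_mul]
        exact congrArg pr (Subtype.ext (by show (ξ : G) = m' * (m'⁻¹ * ξ * m') * m'⁻¹; group))
      have hg1d : g₁ * d * g₁⁻¹ = pr ⟨Tr.D.p Tr.a w, Tr.A_le (Tr.D.mem _ _)⟩ := by
        rw [hd, ← map_inv, ← map_mul, ← map_mul]
        exact congrArg pr (Subtype.ext hm'u)
      have hh : Commute (gW⁻¹ * (θ k')⁻¹ * g₁) d := by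
        refine mul_inv_eq_iff_eq_mul.1 ?_
        calc gW⁻¹ * (θ k')⁻¹ * g₁ * d * (gW⁻¹ * (θ k')⁻¹ * g₁)⁻¹
            = gW⁻¹ * ((θ k')⁻¹ * (g₁ * d * g₁⁻¹) * θ k') * gW := by group
          _ = gW⁻¹ * ((θ k')⁻¹ * (θ k' * θ x * (θ k')⁻¹) * θ k') * gW := by rw [hg1d, hfw]
          _ = gW⁻¹ * (gW * d * gW⁻¹) * gW := by rw [hg]; group
          _ = d := by group
      obtain ⟨y', hy'⟩ : gW⁻¹ * (θ k')⁻¹ * g₁ * θ y₁ * (gW⁻¹ * (θ k')⁻¹ * g₁)⁻¹ ∈ θ.range := by
        obtain ⟨g', hg'⟩ := hprs (gW⁻¹ * (θ k')⁻¹ * g₁)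
        rw [← hg'] at hh
        rw [← hg', hy₁, hθr]
        exact ⟨⟨_, hin g' hh ⟨_, hξ'⟩⟩, by
          show pr _ = pr g' * pr _ * (pr g')⁻¹
          rw [← map_inv, ← map_mul, ← map_mul]; rfl⟩
      refine ⟨y', ?_⟩
      rw [hy']
      calc θ y = (θ k')⁻¹ * (θ k' * θ y * (θ k')⁻¹) * θ k' := by group
        _ = (θ k')⁻¹ * (g₁ * θ y₁ * g₁⁻¹) * θ k' := by rw [hy1']
        _ = _ := by group
  refine ⟨d, θ, L, ⟨huC, rfl⟩, ?_, n, ?_, ?_, ?_, fun gW hg => ?_, fun x hx2 hx1 h25 => ?_⟩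
  · intro h19
    have hker : pr.ker = (zpowers (⟨t, htC⟩ : (Subgroup.centralizer ({t} : Set G)))) := by
      ext x
      rw [MonoidHom.mem_ker, hprk, mem_zpowers_iff]
      have ho : orderOf (⟨t, htC⟩ : (Subgroup.centralizer ({t} : Set G))) = 2 := orderOf_eq_prime
        (Subtype.ext (by rw [SubmonoidClass.coe_pow, pow_two, OneMemClass.coe_one]; exact htt))
        (fun e' => ht1 (congrArg Subtype.val e'))
      constructor
      · rintro (e' | e')
        · exact ⟨0, Subtype.ext (by rw [zpow_zero, e']; rfl)⟩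
        · exact ⟨1, Subtype.ext (by rw [zpow_one, e'])⟩
      · rintro ⟨j, rfl⟩
        rw [← zpow_mod_orderOf, ho]
        rcases Int.emod_two_eq j with h | h <;> simp [h]
    refine Tr.not_dvd_card hF ?_
    rw [Subgroup.card_eq_card_quotient_mul_card_subgroup pr.ker,
      Nat.card_congr (QuotientGroup.quotientKerEquivOfSurjective pr hprs).toEquiv, hker, Nat.card_zpowers,
      orderOf_eq_prime (p := 2) (Subtype.ext (by rw [SubmonoidClass.coe_pow, pow_two, OneMemClass.coe_one]; exact htt))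
        (fun e' => ht1 (congrArg Subtype.val e') : (⟨t, htC⟩ : (Subgroup.centralizer ({t} : Set G))) ≠ 1)]
    rw [show (2 : ℕ) ^ 20 = 2 ^ 19 * 2 by norm_num]
    exact Nat.mul_dvd_mul_right h19 2
  · rw [hn, hd, hcomm]
    exact Or.inr hmu
  · rw [hθr]
    rintro ⟨ξ, hξ⟩
    have hmX : m ∈ XX := by
      rcases (heq _ _).1 hξ with e' | e'
      · have h : (ξ : G) = m := e'
        rw [← h]; exact ξ.2
      · have h : (ξ : G) = t * m := e'
        have : t * (ξ : G) ∈ XX := mul_mem (hAX Tr.t_mem) ξ.2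
        rwa [h, ← mul_assoc, htt, one_mul] at this
    rw [((hXmem m).1 hmX).2, mul_inv_cancel_right] at hmu
    exact hud hmu
  · obtain ⟨i, hi, hie⟩ := hcoord' ⟨Tr.D.p Tr.a e, Tr.D.mem _ _⟩
    refine ⟨cB i, ?_, fun h => ?_, ?_⟩
    · refine (hcls0 hi).1 ?_
      show θ (cB i) ∈ conjugatesOf d
      rw [hie]
      exact (hcl _).2 ⟨e, hea, heb, rfl⟩
    · rw [h, hθd] at hie
      exact hec (hq_inj e Tr.c hea heb (Ne.symm Tr.hac) (Ne.symm Tr.hbc) hie.symm)
    · rw [hie, hn]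
      show pr _ * pr _ * (pr _)⁻¹ = pr _
      rw [← map_inv, ← map_mul, ← map_mul, heq]
      exact Or.inr (hme.trans (Tr.t_mul e).symm)
  · obtain ⟨g, rfl⟩ := hprs gW
    rw [hθr]
    rcases (hcomm g ⟨u, huC⟩).1 hg with e' | e'
    · exact Or.inl ⟨⟨g, (hXmem _).2 ⟨mem_centralizer_singleton_iff.1 g.2, mul_inv_eq_iff_eq_mul.1 e'⟩⟩, rfl⟩
    · right
      change (g : G) * u * (g : G)⁻¹ = t * u at e'
      refine ⟨⟨m⁻¹ * g, (hXmem _).2 ⟨mem_centralizer_singleton_iff.1 (mul_mem (inv_mem hmC) g.2), ?_⟩⟩, ?_⟩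
      · refine mul_inv_eq_iff_eq_mul.1 ?_
        rw [show m⁻¹ * (g : G) * u * (m⁻¹ * (g : G))⁻¹ = m⁻¹ * ((g : G) * u * (g : G)⁻¹) * m by group, e']
        calc m⁻¹ * (t * u) * m = m⁻¹ * (m * u * m⁻¹) * m := by rw [hmu]
          _ = u := by group
      · show pr _ = n⁻¹ * pr g
        rw [hn, ← map_inv, ← map_mul]; rfl
  · -- centralisers of involutions
    obtain ⟨k', i, hi, e'⟩ := hpull x hx2
    obtain ⟨a', ha'⟩ := hcoord i hi
    have hconj : θ k' * θ x * (θ k')⁻¹ = g₀ a' := by rw [← map_inv, ← map_mul, ← map_mul, ← e', ha']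
    have hne1 : g₀ a' ≠ 1 := fun h => hx1 (hθinj (by
      rw [map_one]
      exact conj_eq_one_iff.1 (hconj.trans h)))
    have h25' : 25 ∣ Nat.card ↥(Subgroup.centralizer ({g₀ a'} : Set W)) := by
      rw [← hconj]
      refine h25.trans (dvd_of_eq ?_)
      rw [← card_map_of_injective (f := (MulAut.conj (θ k')).toMonoidHom) (MulAut.conj (θ k')).injective
        (K := Subgroup.centralizer ({θ x} : Set W))]
      congr 1
      congr 1
      ext y
      rw [mem_map_equiv, MulAut.conj_symm_apply, mem_centralizer_singleton_iff, mem_centralizer_singleton_iff]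
      constructor
      · intro h
        calc y * (θ k' * θ x * (θ k')⁻¹) = θ k' * ((θ k')⁻¹ * y * θ k' * θ x) * (θ k')⁻¹ := by group
          _ = θ k' * (θ x * ((θ k')⁻¹ * y * θ k')) * (θ k')⁻¹ := by rw [h]
          _ = _ := by group
      · intro h
        calc (θ k')⁻¹ * y * θ k' * θ x = (θ k')⁻¹ * (y * (θ k' * θ x * (θ k')⁻¹)) * θ k' := by group
          _ = (θ k')⁻¹ * (θ k' * θ x * (θ k')⁻¹ * y) * θ k' := by rw [h]
          _ = _ := by group
    -- the preimage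
    set P : Subgroup (Subgroup.centralizer ({t} : Set G)) := (Subgroup.centralizer ({g₀ a'} : Set W)).comap pr
    have hP25 : 25 ∣ Nat.card P := by
      refine h25'.trans (card_dvd_of_surjective (MonoidHom.mk' (fun y : P => (⟨pr y, y.2⟩ :
        Subgroup.centralizer ({g₀ a'} : Set W))) fun y y' => Subtype.ext (map_mul pr _ _)) fun w => ?_)
      obtain ⟨y, hy⟩ := hprs w
      exact ⟨⟨y, show pr y ∈ _ by rw [hy]; exact w.2⟩, Subtype.ext hy⟩
    set PG : Subgroup G := P.map (Subgroup.centralizer ({t} : Set G)).subtype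
    have horb := Cocode.card_orbit_mul PG (a' : G)
    have hsub : {y : G | ∃ h ∈ PG, h * (a' : G) * h⁻¹ = y} ⊆ {(a' : G), t * a'} := by
      rintro _ ⟨_, ⟨y, hy, rfl⟩, rfl⟩
      rcases (hcomm y (inclusion Tr.A_le a')).1 (mem_centralizer_singleton_iff.1 hy) with e'' | e''
      · exact Or.inl e''
      · exact Or.inr e''
    have hle2 : {y : G | ∃ h ∈ PG, h * (a' : G) * h⁻¹ = y}.ncard ≤ 2 := by
      refine (Set.ncard_le_ncard hsub (Set.toFinite _)).trans ((Set.ncard_insert_le _ _).trans ?_)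
      rw [Set.ncard_singleton]
    set K' : Subgroup G := PG ⊓ Subgroup.centralizer ({(a' : G)} : Set G)
    have hK25 : 25 ∣ Nat.card K' := by
      rw [card_map_of_injective (Subgroup.centralizer ({t} : Set G)).subtype_injective] at horb
      rw [← horb] at hP25
      refine Nat.Coprime.dvd_of_dvd_mul_left ?_ hP25
      have : {y : G | ∃ h ∈ PG, h * (a' : G) * h⁻¹ = y}.ncard ≠ 0 := fun h => by
        rw [Set.ncard_eq_zero (Set.toFinite _)] at h
        exact h.le ⟨1, one_mem _, rfl⟩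
      interval_cases h : {y : G | ∃ h ∈ PG, h * (a' : G) * h⁻¹ = y}.ncard <;> norm_num at *
    have hK'C : K' ≤ (Subgroup.centralizer ({t} : Set G)) := inf_le_left.trans (map_subtype_le _)
    have hzcard : ∀ v, IsConj z v → ¬ 25 ∣ Nat.card ↥(Subgroup.centralizer ({v} : Set G)) := by
      intro v hv h
      obtain ⟨g, rfl⟩ := isConj_iff.1 hv
      have hle : (Subgroup.centralizer ({g * z * g⁻¹} : Set G)).map (MulAut.conj g⁻¹).toMonoidHom ≤
          Subgroup.centralizer ({z} : Set G) := by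
        rintro _ ⟨y, hy, rfl⟩
        refine mem_centralizer_singleton_iff.2 ?_
        have h' := mem_centralizer_singleton_iff.1 hy
        show g⁻¹ * y * g⁻¹⁻¹ * z = z * (g⁻¹ * y * g⁻¹⁻¹)
        calc g⁻¹ * y * g⁻¹⁻¹ * z = g⁻¹ * (y * (g * z * g⁻¹)) * g := by group
          _ = g⁻¹ * (g * z * g⁻¹ * y) * g := by rw [h']
          _ = _ := by group
      have h1 := card_dvd_of_le hle
      rw [card_map_of_injective (MulAut.conj g⁻¹).injective,
        Subgroup.card_eq_card_quotient_mul_card_subgroup Q, (shape_of hF).card_C, (shape_of hF).card_Q] at h1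
      have := h.trans h1
      norm_num at this
    have hX25 : ¬ 25 ∣ Nat.card XX := by
      intro h
      rw [Subgroup.card_eq_card_quotient_mul_card_subgroup σ.ker,
        Nat.card_congr (QuotientGroup.quotientKerEquivOfSurjective σ hσs).toEquiv,
        CfsgLib.Presented.Fi22Unitary.card_psu (hK.trans (by norm_num))] at h
      haveI := Fact.mk Nat.prime_two
      have h2 : IsPGroup 2 σ.ker := fun y => ⟨1, Subtype.ext (Subtype.ext (by
        show ((y : XX) : G) ^ (2 ^ 1) = 1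
        have hy : ((y : XX) : G) ∈ Tr.A := by
          rcases (hσk _).1 y.2 with e'' | e'' | e'' | e'' <;> rw [e'']
          exacts [one_mem _, Tr.t_mem, huA, mul_mem Tr.t_mem huA]
        rw [pow_one, pow_two]; exact Tr.D.sq _ hy))⟩
      obtain ⟨j, hj⟩ := h2.exists_card_eq
      rw [hj] at h
      have hco : Nat.Coprime 25 (2 ^ j) := Nat.Coprime.pow_right _ (by norm_num)
      have := hco.dvd_of_dvd_mul_right h
      norm_num at this
    by_cases hz1 : IsConj z (a' : G)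
    · exact hzcard _ hz1 (hK25.trans (card_dvd_of_le inf_le_right))
    by_cases hz2 : IsConj z (t * (a' : G))
    · refine hzcard _ hz2 (hK25.trans (card_dvd_of_le fun y hy => mem_centralizer_singleton_iff.2 ?_))
      have h1 : Commute y t := mem_centralizer_singleton_iff.1 (hK'C hy)
      have h2 : Commute y (a' : G) := mem_centralizer_singleton_iff.1 hy.2
      exact (h1.mul_right h2).eq
    have hne : ((a' : G)) ≠ 1 ∧ (a' : G) ≠ t := by
      rw [show g₀ a' = pr (inclusion Tr.A_le a') from rfl, Ne, hprk, not_or] at hne1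
      exact hne1
    obtain ⟨w, hwa, hwb, hw⟩ := Tr.share a'.2 hne.1 hne.2 hz1 hz2
    obtain ⟨m', hm't, hm'u⟩ := Tr.exists_move hwa hwb
    refine hX25 (hK25.trans ?_)
    rw [← card_map_of_injective (f := (MulAut.conj m').toMonoidHom) (MulAut.conj m').injective (K := XX)]
    refine card_dvd_of_le fun y hy => ?_
    have h1 : Commute y t := mem_centralizer_singleton_iff.1 (hK'C hy)
    have h2 : Commute y (a' : G) := mem_centralizer_singleton_iff.1 hy.2
    have h3 : Commute y (Tr.D.p Tr.a w) := by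
      rcases hw with e'' | e''
      · rwa [e''] at h2
      · have h4 := h1.mul_right h2
        rwa [e'', ← Tr.t_mul w, ← mul_assoc, htt, one_mul] at h4
    refine ⟨m'⁻¹ * y * m', (hXmem _).2 ⟨?_, ?_⟩, show m' * (m'⁻¹ * y * m') * m'⁻¹ = y by group⟩
    · calc m'⁻¹ * y * m' * t = m'⁻¹ * (y * (m' * t * m'⁻¹)) * m' := by group
        _ = m'⁻¹ * ((m' * t * m'⁻¹) * y) * m' := by rw [hm't, h1.eq]
        _ = t * (m'⁻¹ * y * m') := by group
    · calc m'⁻¹ * y * m' * u = m'⁻¹ * (y * (m' * u * m'⁻¹)) * m' := by group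
        _ = m'⁻¹ * ((m' * u * m'⁻¹) * y) * m' := by rw [hm'u, h3.eq]
        _ = u * (m'⁻¹ * y * m') := by group

end CfsgLib.FischerTwoFour.InvCent
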