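import Cfsg.Agent.Lib.FischerTwoFour.Cocode.Final

/-!
The pairs from 24 points inside every conjugate of `A`: labelled with the triangle identity, the class of a
sum of two disjoint pairs, and the absence of relations of length three between disjoint pairs.
-/

set_option autoImplicit false
set_option linter.unusedSectionVars false
set_option linter.style.haveILetI false

namespace CfsgLib.FischerTwoFour

open Subgroup

/-- A labelling of the elements of an elementary subgroup outside the class of `z` by the pairs from the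
24 coordinates, equivariant for its normaliser. -/
structure Duads {G : Type*} [Group G] (z : G) (A : Subgroup G) where
  comm : ∀ a ∈ A, ∀ b ∈ A, a * b = b * a
  sq : ∀ a ∈ A, a * a = 1
  card : Nat.card A = 2048
  p : Cfsg.GolayPt → Cfsg.GolayPt → G
  diag : ∀ i, p i i = 1
  symm : ∀ i j, p i j = p j i
  add : ∀ i j k, p i j * p i k = p j k
  mem : ∀ i j, p i j ∈ A
  ne_one : ∀ i j, i ≠ j → p i j ≠ 1
  not_conj : ∀ i j, i ≠ j → ¬ IsConj z (p i j)
  surj : ∀ u ∈ A, u ≠ 1 → ¬ IsConj z u → ∃ i j, i ≠ j ∧ p i j = u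
  uniq : ∀ i j k l, i ≠ j → k ≠ l → p i j = p k l → (k = i ∧ l = j) ∨ (k = j ∧ l = i)
  conj_of_disjoint : ∀ i j k l, i ≠ j → k ≠ l → k ≠ i → k ≠ j → l ≠ i → l ≠ j → IsConj z (p i j * p k l)
  three : ∀ a b c d e f, [a, b, c, d, e, f].Nodup → p a b * p c d * p e f ≠ 1
  act : ↥(normalizer (A : Set G)) →* ↥Cfsg.M24
  act_surj : Function.Surjective act
  act_ker : act.ker = A.subgroupOf (normalizer (A : Set G))
  act_p : ∀ (m : ↥(normalizer (A : Set G))) i j,
    (m : G) * p i j * (m : G)⁻¹ = p ((act m : Equiv.Perm Cfsg.GolayPt) i) ((act m : Equiv.Perm Cfsg.GolayPt) j)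
  card_norm : Nat.card ↥(normalizer (A : Set G)) = 2048 * 244823040

namespace Cocode.Sys

open Cfsg
open scoped Pointwise

variable {A : Type*} [AddCommGroup A] [Fintype A] [DecidableEq A] (S : Sys A)

include S

/-- The labelling with its triangle identity and relations. -/
theorem exists_labelling_add : ∃ p : GolayPt → GolayPt → A,
    (∀ i, p i i = 0) ∧ (∀ i j, p i j = p j i) ∧ (∀ i j k, p i j + p i k = p j k) ∧
    (∀ i j, i ≠ j → p i j ∈ S.Nc) ∧ (∀ u ∈ S.Nc, ∃ i j, i ≠ j ∧ p i j = u) ∧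
    (∀ i j k l, i ≠ j → k ≠ l → p i j = p k l → (k = i ∧ l = j) ∨ (k = j ∧ l = i)) ∧
    (∀ i j k l, i ≠ j → k ≠ l → k ≠ i → k ≠ j → l ≠ i → l ≠ j → p i j + p k l ∉ S.Nc) ∧
    ∀ g : A ≃+ A, (∀ u, g u ∈ S.Nc ↔ u ∈ S.Nc) → ∃ σ ∈ M24, ∀ i j, g (p i j) = p (σ i) (σ j) := by
  classical
  obtain ⟨e, he⟩ := CfsgLib.Steiner.Witt.iso_octads S.card_Pt S.steiner
  have hne : ∀ {i j}, i ≠ j → e.symm i ≠ e.symm j := fun h h' => h (e.symm.injective h')
  refine ⟨fun i j => S.meet (e.symm i) (e.symm j), fun i => S.meet_self _, fun i j => S.meet_comm _ _,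
    fun i j k => S.meet_add _ _ _, fun i j h => S.meet_Nc (hne h), ?_, ?_,
    fun i j k l h h' h1 h2 h3 h4 => S.meet_meet_not_mem (hne h) (hne h') (hne h1) (hne h2) (hne h3) (hne h4), ?_⟩
  · intro u hu
    obtain ⟨K, L, h, rfl⟩ := S.exists_pair hu
    exact ⟨e K, e L, fun h' => h (e.injective h'), by simp⟩
  · intro i j k l h h' hp
    exact (S.pair_unique (hne h) (hne h') hp).imp
      (fun x => ⟨e.symm.injective x.1, e.symm.injective x.2⟩)
      (fun x => ⟨e.symm.injective x.1, e.symm.injective x.2⟩)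
  intro g hg
  set π := S.permPt g hg with hπ
  refine ⟨e.symm.trans (π.trans e), ?_, fun i j => ?_⟩
  · rw [CfsgLib.Golay.M24_eq_setSystemAut_octads]
    refine (MulAction.mem_stabilizer_set' CfsgLib.Golay.octads_finite).2 fun o ho => ?_
    rw [← he] at ho ⊢
    obtain ⟨y, ⟨hy8, hyq⟩, rfl⟩ := ho
    refine ⟨y.image π, ⟨by rw [Finset.card_image_of_injective _ π.injective, hy8], ?_⟩, ?_⟩
    · rw [S.qsum_perm g hg (by rw [hy8]; exact ⟨4, rfl⟩), hyq, map_zero]
    · rw [Finset.smul_finset_def]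
      simp only [Finset.image_image]
      refine Finset.image_congr fun x _ => ?_
      simp [Equiv.Perm.smul_def]
  · simp only [Equiv.trans_apply, Equiv.symm_apply_apply]
    exact (S.meet_perm g hg _ _).symm

end Cocode.Sys

namespace Cocode.AData

open Four hiding mul_one one_mul mul_assoc mul_comm mul_zero zero_mul mul_add add_mul

variable {G : Type*} [Group G] [Finite G] {z : G} {Y : CfsgLib.FischerTwoFour.Sys z} (D : AData Y)
  {Q : Subgroup (Subgroup.centralizer ({z} : Set G))} [Q.Normal]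

include D

/-- The labelling of `A`. -/
theorem duads (hF : Cfsg.IsOfLargeFischerTypeAt z Q)
    (hQ : Y.Qg = Q.map (Subgroup.centralizer ({z} : Set G)).subtype) (hpt : HasPts Y) :
    Nonempty (Duads z D.A) := by
  haveI := Fact.mk Nat.prime_two
  classical
  haveI := Fintype.ofFinite G
  letI : CommGroup D.A :=
    { (inferInstance : Group D.A) with mul_comm := fun a c => Subtype.ext (D.A_comm a.2 c.2) }
  obtain ⟨W, hW0, hWA, hWsep, hWnc⟩ := D.exists_frame hpt
  let inc : Additive D.A → G := fun a => ((Additive.toMul a : D.A) : G)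
  have inc_add : ∀ a c, inc (a + c) = inc a * inc c := fun a c => rfl
  have inc_inj : Function.Injective inc := fun a c h => Additive.toMul.injective (Subtype.ext h)
  have inc_one : ∀ a, inc a = 1 ↔ a = 0 := fun a =>
    ⟨fun h => inc_inj (h.trans rfl), fun h => by rw [h]; rfl⟩
  let Nc : Set (Additive D.A) := {a | inc a ∈ D.NcG}
  let mk : ∀ x, x ∈ D.A → Additive D.A := fun x hx => Additive.ofMul ⟨x, hx⟩
  have hfr : ∀ m, m ∈ normalizer (D.A : Set G) → ∀ z' : Additive D.A, m * z * m⁻¹ = inc z' →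
      ∃ F : Frame Nc z', ∀ c, inc (F.W 0 + F.φ c) = m * D.phi c * m⁻¹ := by
    intro m hm z' hz'
    let Wm : ℕ → Additive D.A := fun k => if hk : k < 16 then mk _ (D.norm_conj hm (hWA k hk)) else 0
    have hWm : ∀ k, k < 16 → inc (Wm k) = m * W k * m⁻¹ := fun k hk => by
      show inc (dite _ _ _) = _
      rw [dif_pos hk]; rfl
    refine ⟨
      { φ := fun c => mk _ (D.norm_conj hm (D.phi_mem c).1)
        φ_xor := fun a c _ _ => inc_inj (by
          show m * D.phi (Nat.xor a c) * m⁻¹ = m * D.phi a * m⁻¹ * (m * D.phi c * m⁻¹)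
          rw [← D.phi_mul]; group)
        φ_inj := fun a c ha hc h => D.phi_inj ha hc (mul_left_cancel (mul_right_cancel (congrArg inc h)))
        φ_z := inc_inj (by show m * D.phi 64 * m⁻¹ = inc z'; rw [D.phi_z, hz'])
        W := Wm
        W_zero := inc_inj (by
          rw [hWm 0 (by norm_num), hW0]
          show m * 1 * m⁻¹ = 1
          group)
        W_sep := fun k l a hk hl ha h => by
          refine hWsep k l a hk hl ha (mul_left_cancel (a := m) (mul_right_cancel (b := m⁻¹) ?_))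
          have h' : m * W k * m⁻¹ * (m * W l * m⁻¹) = m * D.phi a * m⁻¹ := by
            rw [← hWm k hk, ← hWm l hl, ← inc_add]; exact congrArg inc h
          rw [← h']; group
        nc_iff := fun x => ?_ }, fun c => ?_⟩
    · obtain ⟨x, hx⟩ := x
      show x ∈ D.NcG ↔ _
      obtain ⟨y, rfl⟩ : ∃ y, m * y * m⁻¹ = x := ⟨m⁻¹ * x * m, by group⟩
      have hy : y ∈ D.A := (mem_normalizer_iff.1 hm y).2 hx
      rw [D.norm_NcG hm, show y ∈ D.NcG ↔ (y ≠ 1 ∧ ¬ IsConj z y) from and_iff_right hy, hWnc y hy]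
      refine exists_congr fun n => and_congr_right fun hn => ?_
      constructor
      · intro e
        refine inc_inj ?_
        rw [inc_add, hWm _ (cd_lt hn).2.1]
        show m * W (cs n) * m⁻¹ * (m * D.phi (cd n) * m⁻¹) = m * y * m⁻¹
        rw [← e]; group
      · intro e
        refine mul_left_cancel (a := m) (mul_right_cancel (b := m⁻¹) ?_)
        have h' : m * W (cs n) * m⁻¹ * (m * D.phi (cd n) * m⁻¹) = m * y * m⁻¹ := by
          rw [← hWm _ (cd_lt hn).2.1]; exact congrArg inc e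
        rw [← h']; group
    · show inc (Wm 0) * (m * D.phi c * m⁻¹) = _
      rw [hWm 0 (by norm_num), hW0]; group
  let zA : Additive D.A := mk z D.z_mem_A
  have hzNc : zA ∉ Nc := fun h => h.2.2 (IsConj.refl z)
  let S : Sys (Additive D.A) :=
    { Nc := Nc
      two := fun a => inc_inj (by rw [inc_add]; exact D.A_sq _ (Additive.toMul a).2)
      card := (Nat.card_congr Additive.toMul).trans D.A_card
      nonempty := ⟨zA, fun h => Y.z1 ((inc_one zA).2 h), hzNc⟩
      frame := fun a ha ha' => by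
        have h1 : inc a ≠ 1 := fun h => ha ((inc_one a).1 h)
        obtain ⟨m, hm, hmz⟩ := D.exists_norm_z (Additive.toMul a).2
          ((D.eq_or_conj (Additive.toMul a).2 h1).resolve_left ha')
        exact ⟨(hfr m hm a hmz).choose⟩ }
  obtain ⟨p, hdiag, hsym, hadd, hNc, hsurj, huniq, hdisj, hequiv⟩ := S.exists_labelling_add
  have hp1 : ∀ {i j}, i ≠ j → inc (p i j) ≠ 1 := fun h => (hNc _ _ h).2.1
  have hth : ∀ a b c d e f, [a, b, c, d, e, f].Nodup → inc (p a b) * inc (p c d) * inc (p e f) ≠ 1 := by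
    intro a b c d e f hnd h
    simp only [List.nodup_cons, List.mem_cons, List.not_mem_nil, or_false, not_or] at hnd
    obtain ⟨⟨hab, hac, had, -, -⟩, ⟨hbc, hbd, -, -⟩, ⟨hcd, -, -⟩, ⟨-, -⟩, hef, -⟩ := hnd
    refine hdisj a b c d hab hcd (Ne.symm hac) (Ne.symm hbc) (Ne.symm had) (Ne.symm hbd) ?_
    have e1 : p a b + p c d + p e f = 0 := inc_inj (by rw [inc_add, inc_add]; exact h)
    rw [show p a b + p c d = p e f by
      rw [← add_zero (p a b + p c d), ← S.two (p e f), ← add_assoc, e1, zero_add]]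
    exact hNc e f hef
  have hgm : ∀ m, m ∈ normalizer (D.A : Set G) → ∃ g : Additive D.A ≃+ Additive D.A,
      ∀ a, inc (g a) = m * inc a * m⁻¹ := by
    intro m hm
    refine ⟨
      { toFun := fun a => mk _ (D.norm_conj hm (Additive.toMul a).2)
        invFun := fun a => mk _ (D.norm_conj (inv_mem hm) (Additive.toMul a).2)
        left_inv := fun a => inc_inj (by show m⁻¹ * (m * inc a * m⁻¹) * m⁻¹⁻¹ = inc a; group)
        right_inv := fun a => inc_inj (by show m * (m⁻¹ * inc a * m⁻¹⁻¹) * m⁻¹ = inc a; group)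
        map_add' := fun a c => inc_inj (by
          show m * (inc a * inc c) * m⁻¹ = m * inc a * m⁻¹ * (m * inc c * m⁻¹); group) }, fun a => rfl⟩
  have heq : ∀ {σ τ : Equiv.Perm Cfsg.GolayPt}, (∀ i j, p (σ i) (σ j) = p (τ i) (τ j)) → τ = σ :=
    fun {σ τ} h => perm_eq_of_pairs fun i j hij =>
      huniq _ _ _ _ (fun e => hij (σ.injective e)) (fun e => hij (τ.injective e)) (h i j)
  have hσex : ∀ m : ↥(normalizer (D.A : Set G)), ∃ σ ∈ Cfsg.M24,
      ∀ i j, (m : G) * inc (p i j) * (m : G)⁻¹ = inc (p (σ i) (σ j)) := by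
    intro m
    obtain ⟨g, hg⟩ := hgm m m.2
    obtain ⟨σ, hσ, hσp⟩ := hequiv g fun u => by
      show inc (g u) ∈ D.NcG ↔ inc u ∈ D.NcG
      rw [hg]; exact D.norm_NcG m.2
    exact ⟨σ, hσ, fun i j => by rw [← hg, hσp]⟩
  choose σ hσM hσ using hσex
  let φ : ↥(normalizer (D.A : Set G)) →* ↥Cfsg.M24 :=
    MonoidHom.mk' (fun m => ⟨σ m, hσM m⟩) fun a b => Subtype.ext (by
      refine heq fun i j => inc_inj ?_
      show inc (p (σ a (σ b i)) (σ a (σ b j))) = inc (p (σ (a * b) i) (σ (a * b) j))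
      rw [← hσ a, ← hσ b, ← hσ (a * b), Subgroup.coe_mul]; group)
  have hkerA : φ.ker = D.A.subgroupOf (normalizer (D.A : Set G)) := by
    ext m
    rw [MonoidHom.mem_ker, mem_subgroupOf]
    constructor
    · intro h
      have h' : σ m = 1 := congrArg Subtype.val h
      refine D.cen_A fun a ha => ?_
      obtain ⟨g, hg⟩ := hgm m m.2
      have e : g.toAddMonoidHom = AddMonoidHom.id _ := S.hom_ext fun u hu => inc_inj (by
        obtain ⟨i, j, -, rfl⟩ := hsurj u hu
        show inc (g (p i j)) = inc (p i j)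
        rw [hg, hσ m, h']; rfl)
      refine mul_inv_eq_iff_eq_mul.1 ?_
      exact (hg (mk a ha)).symm.trans (congrArg inc (DFunLike.congr_fun e (mk a ha)))
    · intro h
      refine Subtype.ext (heq (σ := 1) fun i j => inc_inj ?_)
      show inc (p i j) = inc (p (σ m i) (σ m j))
      rw [← hσ m]
      by_cases hij : i = j
      · subst hij
        rw [(inc_one _).2 (hdiag i), mul_one, mul_inv_cancel]
      · rw [D.A_comm h (hNc i j hij).1, mul_inv_cancel_right]
  have hcardN := (D.mathieuLocal hF hQ hpt).2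
  have hsurjφ : Function.Surjective φ := by
    rw [← MonoidHom.range_eq_top]
    apply eq_top_of_card_eq
    have e := Subgroup.card_eq_card_quotient_mul_card_subgroup φ.ker
    rw [Nat.card_congr (QuotientGroup.quotientKerEquivRange φ).toEquiv, hkerA,
      Nat.card_congr (subgroupOfEquivOfLe le_normalizer).toEquiv, D.A_card, hcardN] at e
    rw [CfsgLib.Golay.natCard_M24]
    omega
  exact ⟨{
    comm := fun a ha b hb => D.A_comm ha hb
    sq := D.A_sq
    card := D.A_card
    p := fun i j => inc (p i j)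
    diag := fun i => (inc_one _).2 (hdiag i)
    symm := fun i j => congrArg inc (hsym i j)
    add := fun i j k => by rw [← inc_add, hadd]
    mem := fun i j => (Additive.toMul (p i j)).2
    ne_one := fun i j h => hp1 h
    not_conj := fun i j h => (hNc i j h).2.2
    surj := fun u hu h1 h2 => by
      obtain ⟨i, j, h, e⟩ := hsurj (mk u hu) ⟨hu, h1, h2⟩
      exact ⟨i, j, h, congrArg inc e⟩
    uniq := fun i j k l h h' e => huniq i j k l h h' (inc_inj e)
    conj_of_disjoint := fun i j k l h h' h1 h2 h3 h4 => by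
      have hne : inc (p i j) * inc (p k l) ≠ 1 := fun e => by
        have e2 : p i j = p k l := inc_inj ((mul_eq_one_iff_eq_inv.1 e).trans
          (inv_eq_of_mul_eq_one_right (D.A_sq _ (Additive.toMul (p k l)).2)))
        rcases huniq i j k l h h' e2 with ⟨x, -⟩ | ⟨x, -⟩
        · exact h1 x
        · exact h2 x
      rw [← inc_add] at hne ⊢
      exact (D.eq_or_conj (Additive.toMul (p i j + p k l)).2 hne).resolve_left (hdisj i j k l h h' h1 h2 h3 h4)
    three := hth
    act := φ
    act_surj := hsurjφ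
    act_ker := hkerA
    act_p := fun m i j => hσ m i j
    card_norm := hcardN }⟩

end Cocode.AData

namespace Duads

variable {G : Type*} [Group G] {z : G} {A : Subgroup G}

theorem normalizer_conj_mem_iff (g : G) (x : G) :
    x ∈ normalizer ((A.map (MulAut.conj g).toMonoidHom : Subgroup G) : Set G) ↔
      g⁻¹ * x * g ∈ normalizer (A : Set G) := by
  rw [← map_equiv_normalizer_eq, mem_map_equiv, MulAut.conj_symm_apply]

/-- Transport by conjugation. -/
noncomputable def map (D : Duads z A) (g : G) : Duads z (A.map (MulAut.conj g).toMonoidHom) where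
  comm := by
    rintro _ ⟨a, ha, rfl⟩ _ ⟨b, hb, rfl⟩
    rw [← map_mul, ← map_mul, D.comm a ha b hb]
  sq := by
    rintro _ ⟨a, ha, rfl⟩
    rw [← map_mul, D.sq a ha, map_one]
  card := by rw [card_map_of_injective (MulAut.conj g).injective, D.card]
  p i j := g * D.p i j * g⁻¹
  diag i := by rw [D.diag, mul_one, mul_inv_cancel]
  symm i j := by rw [D.symm]
  add i j k := by rw [← D.add i j k]; group
  mem i j := ⟨_, D.mem i j, rfl⟩
  ne_one i j h e := D.ne_one i j h (conj_eq_one_iff.1 e)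
  not_conj i j h e := D.not_conj i j h (e.trans (isConj_iff.2 ⟨g⁻¹, by group⟩))
  surj := by
    rintro _ ⟨a, ha, rfl⟩ h1 h2
    obtain ⟨i, j, h, e⟩ := D.surj a ha (fun e => h1 (by rw [e, map_one]))
      (fun e => h2 (e.trans (isConj_iff.2 ⟨g, rfl⟩)))
    exact ⟨i, j, h, by rw [e]; rfl⟩
  uniq i j k l h h' e := D.uniq i j k l h h' (mul_left_cancel (mul_right_cancel e))
  conj_of_disjoint i j k l h h' h1 h2 h3 h4 := (D.conj_of_disjoint i j k l h h' h1 h2 h3 h4).trans
    (isConj_iff.2 ⟨g, by group⟩)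
  three a b c d e f h e' := D.three a b c d e f h ((conj_eq_one_iff (a := g)).1 (by rw [← e']; group))
  act := D.act.comp (MonoidHom.mk' (fun x => ⟨g⁻¹ * (x : G) * g, (normalizer_conj_mem_iff g x).1 x.2⟩)
    fun a b => Subtype.ext (by
      show g⁻¹ * ((a : G) * (b : G)) * g = g⁻¹ * (a : G) * g * (g⁻¹ * (b : G) * g)
      group))
  act_surj := D.act_surj.comp fun y => ⟨⟨g * (y : G) * g⁻¹, (normalizer_conj_mem_iff g _).2 (by
      rw [show g⁻¹ * (g * (y : G) * g⁻¹) * g = y by group]; exact y.2)⟩, Subtype.ext (by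
      show g⁻¹ * (g * (y : G) * g⁻¹) * g = y; group)⟩
  act_ker := by
    ext x
    rw [MonoidHom.mem_ker, MonoidHom.comp_apply, ← MonoidHom.mem_ker, D.act_ker, mem_subgroupOf, mem_subgroupOf,
      mem_map_equiv, MulAut.conj_symm_apply]
    rfl
  act_p m i j := by
    refine Eq.trans ?_ (congrArg (fun y => g * y * g⁻¹) (D.act_p _ i j))
    show (m : G) * (g * D.p i j * g⁻¹) * (m : G)⁻¹ =
      g * (g⁻¹ * (m : G) * g * D.p i j * (g⁻¹ * (m : G) * g)⁻¹) * g⁻¹
    group
  card_norm := by
    rw [← map_equiv_normalizer_eq, card_map_of_injective (MulAut.conj g).injective, D.card_norm]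

end Duads

variable {G : Type*} [Group G] [Finite G] {z : G} {Q : Subgroup (Subgroup.centralizer ({z} : Set G))} [Q.Normal]

/-- An elementary subgroup of order `2^11` inside a Sylow subgroup is its Thompson subgroup. -/
theorem eq_thompson (hF : Cfsg.IsOfLargeFischerTypeAt z Q) (T : Sylow 2 G) {B : Subgroup G}
    (hB : B ≤ T) (hsq : ∀ b ∈ B, b * b = 1) (hc : Nat.card B = 2048) :
    B = Cfsg.thompsonSubgroupOf 2 (T : Subgroup G) := by
  classical
  set P : Subgroup G := (T : Subgroup G)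
  set J := Cfsg.thompsonSubgroupOf 2 P with hJ
  have hM := Cocode.mathieuLocal_of_fischer hF T
  have hcomm : ∀ a ∈ B, ∀ b ∈ B, a * b = b * a := fun a ha b hb => by
    have h1 : ∀ x ∈ B, x⁻¹ = x := fun x hx => inv_eq_of_mul_eq_one_right (hsq x hx)
    rw [← h1 _ (mul_mem ha hb), mul_inv_rev, h1 a ha, h1 b hb]
  have hel : Cfsg.IsElementaryAbelian 2 (B.subgroupOf P) :=
    ⟨⟨⟨fun a b => Subtype.ext (Subtype.ext (hcomm _ (mem_subgroupOf.1 a.2) _ (mem_subgroupOf.1 b.2)))⟩⟩,
      fun a ha => Subtype.ext (by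
        rw [SubmonoidClass.coe_pow, sq, OneMemClass.coe_one]; exact hsq _ (mem_subgroupOf.1 ha))⟩
  have hcB : Nat.card (B.subgroupOf P) = 2048 := (Nat.card_congr (subgroupOfEquivOfLe hB).toEquiv).trans hc
  have hmax : B.subgroupOf P ∈ Cfsg.maxElementaryAbelianSubgroups 2 P := by
    refine ⟨hel, fun C hC => ?_⟩
    obtain ⟨M, hMem, hMle⟩ := Set.exists_max_image {C : Subgroup P | Cfsg.IsElementaryAbelian 2 C}
      (fun C => Nat.card C) (Set.toFinite _) ⟨_, hel⟩
    have h1 : M.map P.subtype ≤ J := map_mono (le_sSup ⟨hMem, fun C hC => hMle C hC⟩)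
    have h2 := card_le_of_le h1
    rw [card_map_of_injective P.subtype_injective, hM.card] at h2
    rw [hcB]
    exact (hMle C hC).trans h2
  refine eq_of_le_of_card_ge ?_ (by rw [hM.card, hc])
  calc B = (B.subgroupOf P).map P.subtype := (map_subgroupOf_eq_of_le hB).symm
    _ ≤ J := map_mono (le_sSup hmax)

/-- Every Thompson subgroup carries a labelling. -/
theorem exists_duads (hF : Cfsg.IsOfLargeFischerTypeAt z Q) (T : Sylow 2 G) :
    Nonempty (Duads z (Cfsg.thompsonSubgroupOf 2 (T : Subgroup G))) := by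
  haveI := Fact.mk Nat.prime_two
  obtain ⟨Y, hQ, ⟨D⟩⟩ := exists_aData hF
  obtain ⟨L⟩ := D.duads hF hQ fun q hq hc hne hΦ => exists_pt_at hF Y hQ hq hc hne hΦ
  obtain ⟨T0, hT0⟩ := D.isPGroup_A.exists_le_sylow
  obtain ⟨g, hg⟩ := MulAction.exists_smul_eq G T0 T
  have e : D.A.map (MulAut.conj g).toMonoidHom = Cfsg.thompsonSubgroupOf 2 (T : Subgroup G) :=
    eq_thompson hF T (by
      rw [← hg, Sylow.coe_subgroup_smul]
      exact map_mono hT0) (D.conj_A_sq g) (D.conj_A_card g)
  exact ⟨e ▸ L.map g⟩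

/-- A Sylow subgroup normalises its Thompson subgroup. -/
theorem le_normalizer_thompson (hF : Cfsg.IsOfLargeFischerTypeAt z Q) (T : Sylow 2 G) :
    (T : Subgroup G) ≤ normalizer (Cfsg.thompsonSubgroupOf 2 (T : Subgroup G) : Set G) := by
  have hM := Cocode.mathieuLocal_of_fischer hF T
  have hJT : Cfsg.thompsonSubgroupOf 2 (T : Subgroup G) ≤ T := map_subtype_le _
  intro t ht
  have e := eq_thompson hF T (B := (Cfsg.thompsonSubgroupOf 2 (T : Subgroup G)).map (MulAut.conj t).toMonoidHom)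
    (by rintro _ ⟨a, ha, rfl⟩; exact mul_mem (mul_mem ht (hJT ha)) (inv_mem ht))
    (by rintro _ ⟨a, ha, rfl⟩; rw [← map_mul, hM.sq a ha, map_one])
    (by rw [card_map_of_injective (MulAut.conj t).injective, hM.card])
  refine mem_normalizer_iff.2 fun a => ⟨fun ha => ?_, fun ha => ?_⟩
  · rw [← e]; exact ⟨a, ha, rfl⟩
  · rw [← e] at ha
    obtain ⟨x, hx, hxe⟩ := ha
    rwa [← (MulAut.conj t).injective hxe]

end CfsgLib.FischerTwoFour
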