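import Cfsg.Agent.Lib.Components.FStar

/-!
A central extension of the automorphism group of a simple group, with two outer cosets and with the centre
inside a perfect subgroup: its generalized Fitting subgroup is quasisimple of index two.
-/

set_option autoImplicit false
set_option linter.style.haveILetI false

namespace CfsgLib.FischerTwoFour.InvCent

open Subgroup
open scoped commutatorElement

/-- An automorphism commuting with all inner ones is trivial when the centre is. -/
theorem eq_one_of_commute_conj {S : Type*} [Group S] (hinj : Function.Injective (MulAut.conj (G := S)))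
    {σ : MulAut S} (h : ∀ x, Commute σ (MulAut.conj x)) : σ = 1 := by
  refine MulEquiv.ext fun x => ?_
  have e : σ * MulAut.conj x * σ⁻¹ = MulAut.conj (σ x) :=
    MulEquiv.ext fun y => by simp [MulAut.mul_apply]
  rw [(h x).eq, mul_inv_cancel_right] at e
  exact (hinj e).symm

theorem fStar_of_extension {C S : Type*} [Group C] [Finite C] [Group S] [IsSimpleGroup S]
    (hS : Subgroup.center S = ⊥) (T : Subgroup C) [T.Normal] (hT : T ≤ Subgroup.center C)
    (e : C ⧸ T ≃* MulAut S) (hidx : (MulAut.conj (G := S)).range.index = 2) (X0 : Subgroup C)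
    (hX : Group.IsPerfect ↥X0) (hTX : T ≤ X0) :
    Cfsg.IsQuasisimple ↥(Cfsg.generalizedFittingSubgroup C) ∧ (Cfsg.generalizedFittingSubgroup C).index = 2 ∧
      T ≤ Cfsg.generalizedFittingSubgroup C := by
  classical
  set F : C →* MulAut S := e.toMonoidHom.comp (QuotientGroup.mk' T) with hF
  have hFs : Function.Surjective F := e.surjective.comp (QuotientGroup.mk'_surjective T)
  have hker : ∀ x, F x = 1 ↔ x ∈ T := fun x => by
    simp [hF, QuotientGroup.eq_one_iff]
  set N0 : Subgroup (MulAut S) := (MulAut.conj (G := S)).range with hN0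
  have hinj : Function.Injective (MulAut.conj (G := S)) := by
    refine (MonoidHom.ker_eq_bot_iff _).1 ((Subgroup.eq_bot_iff_forall _).2 fun x hx => ?_)
    have hxc : x ∈ center S := Subgroup.mem_center_iff.2 fun y => by
      have := congrArg (fun σ : MulAut S => σ y) (MonoidHom.mem_ker.1 hx)
      simp only [MulAut.conj_apply, MulAut.one_apply] at this
      exact (mul_inv_eq_iff_eq_mul.1 this).symm
    rwa [hS, mem_bot] at hxc
  haveI hN0n : N0.Normal := ⟨by
    rintro _ ⟨x, rfl⟩ g
    exact ⟨g x, MulEquiv.ext fun y => by simp [MulAut.mul_apply]⟩⟩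
  haveI hN0s : IsSimpleGroup ↥N0 := (MulEquiv.isSimpleGroup_congr (MonoidHom.ofInjective hinj)).1 inferInstance
  have hnc : ¬ IsMulCommutative S := fun h => by
    have hc : center S = ⊤ := top_unique fun x _ => Subgroup.mem_center_iff.2 fun y => h.is_comm.comm y x
    rw [hS] at hc
    obtain ⟨x, hx⟩ := exists_ne (1 : S)
    exact hx (mem_bot.1 (hc ▸ mem_top x))
  have hN0nc : ¬ ∀ a b : ↥N0, a * b = b * a := fun h => hnc ⟨⟨fun a b =>
    (MonoidHom.ofInjective hinj).injective (by rw [map_mul, map_mul]; exact h _ _)⟩⟩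
  set I : Subgroup C := N0.comap F with hI
  haveI hIn : I.Normal := hN0n.comap F
  have hIidx : I.index = 2 := by rw [hI, index_comap_of_surjective _ hFs, hidx]
  have hTI : T ≤ I := fun x hx => by
    rw [hI, mem_comap, (hker x).2 hx]; exact one_mem _
  -- the perfect subgroup lies inside
  have hXX : ⁅X0, X0⁆ = X0 := by
    rw [← map_subtype_commutator, hX.commutator_eq_top, ← MonoidHom.range_eq_map, range_subtype]
  have hXI : X0 ≤ I := by
    rw [← hXX]
    refine commutator_le.2 fun a _ b _ => ?_
    simp only [commutatorElement_def, mul_mem_iff_of_index_two hIidx, inv_mem_iff]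
    tauto
  let g : ↥I →* ↥N0 := (F.comp I.subtype).codRestrict N0 fun x => mem_comap.1 x.2
  have hgs : Function.Surjective g := fun y => by
    obtain ⟨x, hx⟩ := hFs y
    exact ⟨⟨x, mem_comap.2 (by rw [hx]; exact y.2)⟩, Subtype.ext hx⟩
  have hgk : ∀ x : ↥I, g x = 1 ↔ (x : C) ∈ T := fun x => by
    rw [← hker, Subtype.ext_iff]; rfl
  have hTc : ∀ x : ↥I, (x : C) ∈ T → x ∈ center ↥I := fun x hx =>
    Subgroup.mem_center_iff.2 fun y => Subtype.ext (Subgroup.mem_center_iff.1 (hT hx) _)
  -- perfect
  have hTcom : ∀ x : ↥I, (x : C) ∈ T → x ∈ _root_.commutator ↥I := fun x hx => by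
    have h1 : (x : C) ∈ ⁅I, I⁆ := commutator_mono hXI hXI (hXX.symm ▸ hTX hx)
    rw [← map_subtype_commutator] at h1
    obtain ⟨y, hy, hyx⟩ := h1
    exact (Subtype.ext hyx : y = x) ▸ hy
  have hperf : _root_.commutator ↥I = ⊤ := by
    refine top_unique fun x _ => ?_
    have hR : _root_.commutator ↥N0 = ⊤ := by
      refine ((inferInstance : (_root_.commutator ↥N0).Normal).eq_bot_or_eq_top).resolve_left fun h => hN0nc ?_
      intro a b
      refine commutatorElement_eq_one_iff_mul_comm.1 (mem_bot.1 ?_)
      rw [← h, commutator_def]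
      exact commutator_mem_commutator (mem_top _) (mem_top _)
    obtain ⟨y, hy, hyx⟩ : g x ∈ (_root_.commutator ↥I).map g := by
      rw [commutator_def, map_commutator, map_top_of_surjective g hgs, ← commutator_def, hR]
      exact mem_top _
    have := mul_mem hy (hTcom (y⁻¹ * x) ((hgk _).1 (by rw [map_mul, map_inv, hyx, inv_mul_cancel])))
    rwa [mul_inv_cancel_left] at this
  haveI : Nontrivial ↥I := by
    obtain ⟨y, hy⟩ := exists_ne (1 : ↥N0)
    obtain ⟨x, rfl⟩ := hgs y
    exact ⟨⟨x, 1, fun h => hy (by rw [h, map_one])⟩⟩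
  have hIq : Cfsg.IsQuasisimple ↥I := by
    refine CfsgLib.Components.isQuasisimple_of_normal hperf fun N hN hNtop => ?_
    rcases (hN.map g hgs).eq_bot_or_eq_top with h | h
    · exact fun x hx => hTc x ((hgk x).1 (mem_bot.1 (h ▸ mem_map_of_mem g hx)))
    · refine absurd (top_unique (hperf ▸ ?_)) hNtop
      rw [commutator_def]
      refine commutator_le.2 fun a _ b _ => ?_
      have key : ∀ x : ↥I, ∃ n ∈ N, ∃ t ∈ center ↥I, x = n * t := fun x => by
        obtain ⟨n, hn, hnx⟩ : g x ∈ N.map g := h ▸ mem_top _
        exact ⟨n, hn, n⁻¹ * x, hTc _ ((hgk _).1 (by rw [map_mul, map_inv, hnx, inv_mul_cancel])), by group⟩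
      obtain ⟨n, hn, t, ht, rfl⟩ := key a
      obtain ⟨m, hm, s, hs, rfl⟩ := key b
      rw [← QuotientGroup.eq_one_iff, ← QuotientGroup.mk'_apply, map_commutatorElement]
      have h1 : ∀ {k : ↥I}, k ∈ N → QuotientGroup.mk' N k = 1 := fun hk => (QuotientGroup.eq_one_iff _).2 hk
      rw [map_mul, map_mul, h1 hn, h1 hm, one_mul, one_mul, ← map_commutatorElement,
        commutatorElement_eq_one_iff_mul_comm.2 (Subgroup.mem_center_iff.1 ht s).symm, map_one]
  have hIc : Cfsg.IsComponent I := ⟨hIn.isSubnormal, hIq⟩
  -- nothing else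
  have hlim : Cfsg.generalizedFittingSubgroup C ≤ I := by
    have out : ∀ x : C, (∀ y ∈ N0, Commute (F x) y) → x ∈ T := fun x hx =>
      (hker x).1 (eq_one_of_commute_conj hinj fun s => hx _ ⟨s, rfl⟩)
    refine sup_le (sSup_le fun L hL => ?_) ?_
    · rcases eq_or_ne L I with rfl | hne
      · exact le_rfl
      · refine fun x hx => hTI (out x fun y hy => ?_)
        obtain ⟨w, rfl⟩ := hFs y
        exact Commute.map (show Commute x w from CfsgLib.Components.commute_of_commutator_eq_bot
          (CfsgLib.Components.commutator_components_eq_bot hL hIc hne) hx (mem_comap.2 hy)) F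
    · haveI : (Cfsg.fittingSubgroup C).Normal := CfsgLib.Fitting.fitting_normal
      haveI := CfsgLib.Components.fitting_isSolvable (G := C)
      set M := (Cfsg.fittingSubgroup C).map F with hM
      haveI hMn : M.Normal := Subgroup.Normal.map inferInstance F hFs
      haveI : Group.IsSolvable ↥M := Group.isSolvable_of_surjective (F.subgroupMap_surjective _)
      have hdis : Disjoint M N0 := by
        rw [disjoint_iff, Subgroup.eq_bot_iff_forall]
        rintro x ⟨hxM, hxN⟩
        rcases (hMn.subgroupOf N0).eq_bot_or_eq_top with h | h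
        · have h1 : (⟨x, hxN⟩ : ↥N0) ∈ M.subgroupOf N0 := hxM
          rw [h, mem_bot] at h1
          exact congrArg Subtype.val h1
        · exfalso
          haveI : Group.IsSolvable ↥N0 :=
            Group.isSolvable_of_isSolvable_injective (inclusion_injective (subgroupOf_eq_top.1 h))
          exact hN0nc fun a b => IsSimpleGroup.comm_iff_isSolvable.2 inferInstance a b
      exact fun x hx => hTI (out x fun y hy =>
        Subgroup.commute_of_normal_of_disjoint M N0 hMn hN0n hdis _ _ (mem_map_of_mem F hx) hy)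
  have hge : I ≤ Cfsg.generalizedFittingSubgroup C :=
    (CfsgLib.Components.component_le_layer hIc).trans CfsgLib.Components.layer_le_generalizedFitting
  rw [le_antisymm hlim hge]
  exact ⟨hIq, hIidx, hTI⟩

end CfsgLib.FischerTwoFour.InvCent
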