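import Cfsg.Agent.Lib.FischerTwoFour.InvCent.Duads
import Cfsg.Agent.Lib.Presented.Fi22Unitary.Cover
import Cfsg.Agent.Lib.Golay.Involutions

/-!
Large Fischer type: a four-group through a given involution of `Q` outside the class of `z`, with centraliser
quasisimple over the unitary group, lies in a conjugate of `A` as a triangle of pairs.
-/

set_option autoImplicit false
set_option linter.unusedSectionVars false
set_option linter.style.haveILetI false
set_option maxHeartbeats 1000000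

namespace CfsgLib.FischerTwoFour.InvCent

open Subgroup
open scoped Pointwise

/-- The four-group with unitary centraliser in a group of large Fischer type. -/
def LargeFischerFourGroup.{v} : Prop :=
  ∀ {G : Type v} [Group G] [Finite G] (z : G) (Q : Subgroup (Subgroup.centralizer ({z} : Set G))) [Q.Normal]
    (_ : Cfsg.IsOfLargeFischerTypeAt z Q),
    ∃ E : Subgroup G, E ≤ (Q.map (Subgroup.centralizer ({z} : Set G)).subtype) ∧ Cfsg.IsElementaryAbelian 2 E ∧
      Nat.card E = 4 ∧ z ∉ E ∧ (∃ t ∈ E, orderOf t = 2 ∧ ¬ IsConj z t) ∧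
      Cfsg.IsQuasisimple ↥(Subgroup.centralizer (E : Set G)) ∧
      ∃ (_ : (E.subgroupOf (Subgroup.centralizer (E : Set G))).Normal) (K : Type) (_ : Field K) (_ : Fintype K),
        Fintype.card K = 4 ∧
        Nonempty (↥(Subgroup.centralizer (E : Set G)) ⧸ E.subgroupOf (Subgroup.centralizer (E : Set G)) ≃*
          Cfsg.PSU 6 K 2)

variable {G : Type*} [Group G]

/-- A triangle `ab, ac, bc` of pairs in a labelled elementary subgroup, with quasisimple centraliser over
the unitary group. -/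
structure Triangle (z t : G) where
  A : Subgroup G
  D : Duads z A
  a : Cfsg.GolayPt
  b : Cfsg.GolayPt
  c : Cfsg.GolayPt
  hab : a ≠ b
  hac : a ≠ c
  hbc : b ≠ c
  t_eq : D.p a b = t
  quasi : Cfsg.IsQuasisimple ↥(Subgroup.centralizer ({t, D.p a c} : Set G))
  quot : ∃ (K : Type) (_ : Field K) (_ : Fintype K), Fintype.card K = 4 ∧
    ∃ σ : ↥(Subgroup.centralizer ({t, D.p a c} : Set G)) →* Cfsg.PSU 6 K 2, Function.Surjective σ ∧
      ∀ x, σ x = 1 ↔ ((x : G) = 1 ∨ (x : G) = t ∨ (x : G) = D.p a c ∨ (x : G) = t * D.p a c)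

variable [Finite G]

omit [Finite G] in
/-- The centraliser of a conjugated pair of sets. -/
theorem mem_centralizer_conj (c : G) (S : Set G) (x : G) :
    x ∈ Subgroup.centralizer ((fun y => c * y * c⁻¹) '' S) ↔ c⁻¹ * x * c ∈ Subgroup.centralizer S := by
  simp only [mem_centralizer_iff, Set.forall_mem_image]
  refine forall₂_congr fun y _ => ?_
  constructor
  · intro h
    calc y * (c⁻¹ * x * c) = c⁻¹ * (c * y * c⁻¹ * x) * c := by group
      _ = c⁻¹ * (x * (c * y * c⁻¹)) * c := by rw [h]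
      _ = c⁻¹ * x * c * y := by group
  · intro h
    calc c * y * c⁻¹ * x = c * (y * (c⁻¹ * x * c)) * c⁻¹ := by group
      _ = c * (c⁻¹ * x * c * y) * c⁻¹ := by rw [h]
      _ = x * (c * y * c⁻¹) := by group

/-- The number of pairs. -/
theorem ncard_pairs {z : G} {A : Subgroup G} (D : Duads z A) :
    {y : G | ∃ i j, i ≠ j ∧ D.p i j = y}.ncard = 276 := by
  classical
  let P : Finset (Cfsg.GolayPt × Cfsg.GolayPt) :=
    Finset.univ.filter fun q => CfsgLib.Golay.idx q.1 < CfsgLib.Golay.idx q.2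
  have hP : P.card = 276 := by decide +kernel
  have he : {y : G | ∃ i j, i ≠ j ∧ D.p i j = y} = P.image fun q => D.p q.1 q.2 := by
    ext y
    simp only [Set.mem_setOf_eq, Finset.coe_image, Set.mem_image, Finset.mem_coe, P, Finset.mem_filter,
      Finset.mem_univ, true_and, Prod.exists]
    constructor
    · rintro ⟨i, j, h, rfl⟩
      rcases lt_or_gt_of_ne (fun e => h (CfsgLib.Golay.idx_injective e)) with h' | h'
      · exact ⟨i, j, h', rfl⟩
      · exact ⟨j, i, h', D.symm _ _⟩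
    · rintro ⟨i, j, h, rfl⟩
      exact ⟨i, j, fun e => absurd h (by rw [e]; exact lt_irrefl _), rfl⟩
  rw [he, Set.ncard_coe_finset, Finset.card_image_of_injOn, hP]
  intro q hq q' hq' e
  simp only [P, Finset.coe_filter, Finset.mem_univ, true_and, Set.mem_setOf_eq] at hq hq'
  rcases D.uniq _ _ _ _ (fun e => absurd hq (by rw [e]; exact lt_irrefl _))
    (fun e => absurd hq' (by rw [e]; exact lt_irrefl _)) e with ⟨h1, h2⟩ | ⟨h1, h2⟩
  · exact Prod.ext h1.symm h2.symm
  · rw [h1, h2] at hq'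
    exact absurd hq (lt_asymm hq')

/-- The normaliser of `A` fixing one pair. -/
theorem card_norm_pair {z : G} {A : Subgroup G} (D : Duads z A) {a b : Cfsg.GolayPt} (hab : a ≠ b) :
    Nat.card ↥(normalizer (A : Set G) ⊓ Subgroup.centralizer ({D.p a b} : Set G)) = 1816657920 := by
  have h := Cocode.card_orbit_mul (normalizer (A : Set G)) (D.p a b)
  have he : {y : G | ∃ h ∈ normalizer (A : Set G), h * D.p a b * h⁻¹ = y} = {y | ∃ i j, i ≠ j ∧ D.p i j = y} := by
    ext y
    constructor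
    · rintro ⟨m, hm, rfl⟩
      exact ⟨_, _, fun e => hab ((D.act ⟨m, hm⟩ : Equiv.Perm Cfsg.GolayPt).injective e),
        (D.act_p ⟨m, hm⟩ a b).symm⟩
    · rintro ⟨i, j, hij, rfl⟩
      obtain ⟨g, hg, hgL⟩ := CfsgLib.Golay.exists_map_eq (L := [a, b]) (L' := [i, j]) (by simpa using hab)
        (by simpa using hij) rfl (by simp)
      simp only [List.map_cons, List.map_nil, List.cons.injEq, and_true] at hgL
      obtain ⟨m, hm⟩ := D.act_surj ⟨g, hg⟩
      exact ⟨m, m.2, by rw [D.act_p m, hm, hgL.1, hgL.2]⟩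
  rw [he, ncard_pairs D, D.card_norm] at h
  omega

variable {z : G} {Q : Subgroup (Subgroup.centralizer ({z} : Set G))} [Q.Normal]

/-- An involution of `Q` outside the class of `z` is a pair in some conjugate of `A`. -/
theorem exists_duads_at (hF : Cfsg.IsOfLargeFischerTypeAt z Q) {t : G}
    (htQ : t ∈ Q.map (Subgroup.centralizer ({z} : Set G)).subtype) (ht2 : t * t = 1) (ht1 : t ≠ 1)
    (ht : ¬ IsConj z t) : ∃ A : Subgroup G, ∃ _ : Duads z A, t ∈ A := by
  haveI := Fact.mk Nat.prime_two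
  obtain ⟨Y, hQ, ⟨D⟩⟩ := exists_aData hF
  have hpt : Cocode.HasPts Y := fun q hq hc hne hΦ => exists_pt_at hF Y hQ hq hc hne hΦ
  obtain ⟨L⟩ := D.duads hF hQ hpt
  obtain ⟨-, -, -, -, -, -, -, -, -, -, htetB, h36⟩ := D.exists_pairs hpt
  obtain ⟨u, hu, hzu⟩ : {u : G | u ∈ D.NcG ∧ z * u ∈ D.NcG}.Nonempty :=
    Set.nonempty_of_ncard_ne_zero (by omega)
  have huQ : u ∈ Q.map (Subgroup.centralizer ({z} : Set G)).subtype := hQ ▸ (htetB u hu hzu).2
  obtain ⟨c, -, hc⟩ := Cocode.conj_in_Q hF huQ htQ (D.A_sq u hu.1) ht2 hu.2.1 ht1 hu.2.2 ht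
  exact ⟨_, L.map c, u, hu.1, hc⟩

/-- An elementary four-group normalising a conjugate of `A`, through a pair of it and centralising a large
part of it, is inside. -/
theorem mem_of_large_fixed {A : Subgroup G} (D : Duads z A) {u : G} (hu2 : u * u = 1)
    (huN : u ∈ normalizer (A : Set G)) {B : Subgroup G} (hBA : B ≤ A) (hB : 512 ≤ Nat.card B)
    (hcomm : ∀ x ∈ B, u * x * u⁻¹ = x) : u ∈ A := by
  classical
  by_contra huA
  set σ : Equiv.Perm Cfsg.GolayPt := (D.act ⟨u, huN⟩ : Equiv.Perm Cfsg.GolayPt) with hσ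
  have hσ1 : σ ≠ 1 := fun e => huA (by
    have h : (⟨u, huN⟩ : ↥(normalizer (A : Set G))) ∈ D.act.ker := Subtype.ext e
    rw [D.act_ker] at h
    exact mem_subgroupOf.1 h)
  have hσσ : ∀ p, σ (σ p) = p := fun p => by
    have h : D.act ⟨u, huN⟩ * D.act ⟨u, huN⟩ = 1 := by
      rw [← map_mul, show (⟨u, huN⟩ : ↥(normalizer (A : Set G))) * ⟨u, huN⟩ = 1 from Subtype.ext hu2, map_one]
    exact congrArg (fun e : ↥Cfsg.M24 => (e : Equiv.Perm Cfsg.GolayPt) p) h
  have hσord : orderOf σ = 2 := orderOf_eq_prime (Equiv.ext fun p => by rw [pow_two]; exact hσσ p) hσ1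
  set M : Finset Cfsg.GolayPt := Finset.univ.filter fun p => σ p ≠ p with hM
  have hM16 : 16 ≤ M.card := by
    have hsum : (Finset.univ.filter fun p => σ p = p).card + M.card = 24 := by
      rw [hM, Finset.card_filter_add_card_filter_not]
      rfl
    rcases CfsgLib.Golay.Invol.two_classes (D.act ⟨u, huN⟩).2 hσord with ⟨ho, -⟩ | ⟨ho, -⟩
    · have h8 : (Finset.univ.filter fun p => σ p = p).card = 8 := by
        convert CfsgLib.Golay.card_of_mem_octads ho
      omega
    · rw [Finset.filter_false_of_mem fun p _ => ho p] at hsum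
      simp at hsum
      omega
  -- the commutator map
  let f : A →* G := MonoidHom.mk' (fun x => (x : G) * (u * (x : G) * u⁻¹)) fun x y => by
    have h := D.comm _ ((mem_normalizer_iff.1 huN x).1 x.2) _ y.2
    calc (x : G) * (y : G) * (u * ((x : G) * (y : G)) * u⁻¹)
        = (x : G) * ((y : G) * (u * (x : G) * u⁻¹)) * (u * (y : G) * u⁻¹) := by group
      _ = (x : G) * (u * (x : G) * u⁻¹ * (y : G)) * (u * (y : G) * u⁻¹) := by rw [h]
      _ = _ := by group
  have hker : 512 ≤ Nat.card f.ker := by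
    refine hB.trans (Nat.card_le_card_of_injective
      (fun x : B => (⟨⟨(x : G), hBA x.2⟩, show (x : G) * (u * (x : G) * u⁻¹) = 1 by
        rw [hcomm x x.2, D.sq _ (hBA x.2)]⟩ : f.ker)) fun x y e => Subtype.ext ?_)
    exact congrArg (fun w : f.ker => ((w : A) : G)) e
  obtain ⟨p₀, hp₀⟩ := Finset.card_pos.1 (show 0 < M.card by omega)
  let g : Cfsg.GolayPt → G := fun i => D.p p₀ (σ p₀) * D.p i (σ i)
  have hrange : 5 ≤ Nat.card f.range := by
    have hmem : ∀ i, g i ∈ f.range := fun i => ⟨⟨D.p p₀ i, D.mem _ _⟩, by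
      show D.p p₀ i * (u * D.p p₀ i * u⁻¹) = D.p p₀ (σ p₀) * D.p i (σ i)
      rw [D.act_p ⟨u, huN⟩ p₀ i, ← hσ, ← D.add p₀ (σ p₀) (σ i), ← D.add p₀ i (σ i), ← mul_assoc, ← mul_assoc,
        D.comm _ (D.mem p₀ i) _ (D.mem p₀ (σ p₀))]⟩
    have h2 : M.card ≤ 2 * (M.image g).card := Finset.card_le_mul_card_image M 2 fun y hy => by
      obtain ⟨i, hi, rfl⟩ := Finset.mem_image.1 hy
      refine le_trans (Finset.card_le_card (t := {i, σ i}) fun j hj => ?_) Finset.card_le_two
      obtain ⟨hjM, hje⟩ := Finset.mem_filter.1 hj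
      have hj' := (Finset.mem_filter.1 hjM).2
      have hi' := (Finset.mem_filter.1 hi).2
      have e : D.p j (σ j) = D.p i (σ i) := mul_left_cancel hje
      rcases D.uniq i (σ i) j (σ j) (Ne.symm hi') (Ne.symm hj') e.symm with h | h <;> simp [h.1]
    have h3 : (M.image g).card ≤ Nat.card f.range := by
      rw [← Nat.card_eq_finsetCard]
      exact Nat.card_le_card_of_injective (fun y : M.image g => (⟨y.1, by
        obtain ⟨i, -, e⟩ := Finset.mem_image.1 y.2
        exact e ▸ hmem i⟩ : f.range)) fun x y e => Subtype.ext (congrArg (fun w : f.range => (w : G)) e)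
    omega
  have h := Subgroup.card_eq_card_quotient_mul_card_subgroup f.ker
  rw [Nat.card_congr (QuotientGroup.quotientKerEquivRange f).toEquiv, D.card] at h
  have := Nat.mul_le_mul hrange hker
  omega

/-- The triangle. -/
theorem exists_triangle (h5449 : LargeFischerFourGroup.{u_1}) (hF : Cfsg.IsOfLargeFischerTypeAt z Q) {t : G}
    (htQ : t ∈ Q.map (Subgroup.centralizer ({z} : Set G)).subtype) (ht2 : t * t = 1) (ht1 : t ≠ 1)
    (ht : ¬ IsConj z t) : Nonempty (Triangle z t) := by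
  classical
  haveI := Fact.mk Nat.prime_two
  obtain ⟨E₀, hE₀Q, hEel, hE4, hzE, ⟨t₀, ht₀E, ht₀o, ht₀⟩, hqs, hn, K, _, _, hK, ⟨e⟩⟩ := h5449 z Q hF
  -- move `t₀` to `t`
  have hsq₀ : t₀ * t₀ = 1 := by rw [← pow_two, ← ht₀o]; exact pow_orderOf_eq_one t₀
  obtain ⟨c, -, hc⟩ := Cocode.conj_in_Q hF (hE₀Q ht₀E) htQ hsq₀ ht2
    (fun e => by rw [e, orderOf_one] at ht₀o; omega) ht1 ht₀ ht
  set E : Subgroup G := E₀.map (MulAut.conj c).toMonoidHom with hE
  set X₀ := Subgroup.centralizer (E₀ : Set G) with hX₀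
  set X := Subgroup.centralizer (E : Set G) with hX
  have hXmem : ∀ x, x ∈ X ↔ c⁻¹ * x * c ∈ X₀ := fun x => by
    rw [hX, hX₀, ← mem_centralizer_conj c]
    rfl
  let ι : ↥X ≃* ↥X₀ :=
    { toFun := fun x => ⟨c⁻¹ * x * c, (hXmem x).1 x.2⟩
      invFun := fun y => ⟨c * y * c⁻¹, (hXmem _).2 (by
        rw [show c⁻¹ * (c * (y : G) * c⁻¹) * c = y by group]; exact y.2)⟩
      left_inv := fun x => Subtype.ext (by show c * (c⁻¹ * (x : G) * c) * c⁻¹ = x; group)
      right_inv := fun y => Subtype.ext (by show c⁻¹ * (c * (y : G) * c⁻¹) * c = y; group)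
      map_mul' := fun x y => Subtype.ext (by
        show c⁻¹ * ((x : G) * (y : G)) * c = c⁻¹ * (x : G) * c * (c⁻¹ * (y : G) * c); group) }
  let σ : ↥X →* Cfsg.PSU 6 K 2 := e.toMonoidHom.comp ((QuotientGroup.mk' _).comp ι.toMonoidHom)
  have hσs : Function.Surjective σ :=
    e.surjective.comp ((QuotientGroup.mk'_surjective _).comp ι.surjective)
  have hσk : ∀ x : ↥X, σ x = 1 ↔ (x : G) ∈ E := fun x => by
    show e (QuotientGroup.mk (ι x)) = 1 ↔ _
    rw [MulEquiv.map_eq_one_iff, QuotientGroup.eq_one_iff, mem_subgroupOf, hE, mem_map_equiv,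
      MulAut.conj_symm_apply]
    rfl
  have hEsq : ∀ x ∈ E, x * x = 1 := by
    rintro _ ⟨x, hx, rfl⟩
    rw [← map_mul, ← pow_two, hEel.2 x hx, map_one]
  have hEc : ∀ x ∈ E, ∀ y ∈ E, x * y = y * x := fun x hx y hy => by
    have h1 : ∀ w ∈ E, w⁻¹ = w := fun w hw => inv_eq_of_mul_eq_one_right (hEsq w hw)
    rw [← h1 _ (mul_mem hx hy), mul_inv_rev, h1 x hx, h1 y hy]
  have htE : t ∈ E := ⟨t₀, ht₀E, hc⟩
  have hEX : E ≤ X := fun x hx => mem_centralizer_iff.2 fun y hy => hEc y hy x hx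
  have hE4' : Nat.card E = 4 := by rw [hE, card_map_of_injective (MulAut.conj c).injective, hE4]
  have hF4 : Fintype.card K = 2 ^ 2 := hK.trans (by norm_num)
  have hcardX : Nat.card X = 9196830720 * 4 := by
    rw [Subgroup.card_eq_card_quotient_mul_card_subgroup σ.ker,
      Nat.card_congr (QuotientGroup.quotientKerEquivOfSurjective σ hσs).toEquiv,
      CfsgLib.Presented.Fi22Unitary.card_psu hF4]
    congr 1
    rw [← hE4']
    refine Nat.card_congr ⟨fun x => ⟨_, (hσk x).1 x.2⟩, fun y => ⟨⟨y, hEX y.2⟩, (hσk _).2 y.2⟩,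
      fun x => rfl, fun y => rfl⟩
  -- none is conjugate to `z`
  have hnz : ∀ x ∈ E, ¬ IsConj z x := by
    intro x hx hzx
    obtain ⟨g, rfl⟩ := isConj_iff.1 hzx
    have hle : X.map (MulAut.conj g⁻¹).toMonoidHom ≤ Subgroup.centralizer ({z} : Set G) := by
      rintro _ ⟨y, hy, rfl⟩
      refine mem_centralizer_singleton_iff.2 ?_
      show g⁻¹ * y * g⁻¹⁻¹ * z = z * (g⁻¹ * y * g⁻¹⁻¹)
      have h := mem_centralizer_iff.1 hy _ hx
      calc g⁻¹ * y * g⁻¹⁻¹ * z = g⁻¹ * (y * (g * z * g⁻¹)) * g := by group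
        _ = g⁻¹ * (g * z * g⁻¹ * y) * g := by rw [h]
        _ = _ := by group
    have h1 := card_dvd_of_le hle
    rw [card_map_of_injective (MulAut.conj g⁻¹).injective, hcardX,
      Subgroup.card_eq_card_quotient_mul_card_subgroup Q, (shape_of hF).card_C, (shape_of hF).card_Q] at h1
    norm_num at h1
  -- a conjugate of `A` normalised by a Sylow subgroup of the centraliser of the four-group
  obtain ⟨A₀, D₀, htA₀⟩ := exists_duads_at hF htQ ht2 ht1 ht
  set Ct := Subgroup.centralizer ({t} : Set G) with hCt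
  have hXC : X ≤ Ct := fun x hx => mem_centralizer_singleton_iff.2 (mem_centralizer_iff.1 hx t htE).symm
  have hA₀C : A₀ ≤ Ct := fun x hx => mem_centralizer_singleton_iff.2 (D₀.comm x hx t htA₀)
  have hA2 : IsPGroup 2 A₀ := IsPGroup.of_card (n := 11) (by rw [D₀.card]; norm_num)
  obtain ⟨PX⟩ : Nonempty (Sylow 2 ↥X) := inferInstance
  set P : Subgroup G := (PX : Subgroup X).map X.subtype with hP
  have hP17 : Nat.card P = 2 ^ 17 := by
    rw [hP, card_map_of_injective X.subtype_injective, PX.card_eq_multiplicity, hcardX]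
    congr 1
    rw [Nat.factorization_def _ Nat.prime_two]
    norm_num [padicValNat.eq_zero_iff]
    rw [show (36787322880 : ℕ) = 2 ^ 17 * 280665 by norm_num, padicValNat.mul (by norm_num) (by norm_num),
      padicValNat.prime_pow, padicValNat.eq_zero_of_not_dvd (by norm_num)]
  have hEP : E ≤ P := by
    intro x hx
    haveI : (E.subgroupOf X).Normal := ⟨fun n hn g => by
      rw [mem_subgroupOf] at hn ⊢
      have h := mem_centralizer_iff.1 g.2 _ hn
      simpa [← h] using hn⟩
    exact ⟨⟨x, hEX hx⟩, IsPGroup.le_sylow_of_normal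
      (IsPGroup.of_card (n := 2) (by
        rw [Nat.card_congr (subgroupOfEquivOfLe hEX).toEquiv, hE4']; norm_num)) PX hx, rfl⟩
  obtain ⟨SA, hSA⟩ := (hA2.comap_subtype (K := Ct)).exists_le_sylow
  obtain ⟨SP, hSP⟩ := ((PX.2.map X.subtype).comap_subtype (K := Ct)).exists_le_sylow
  obtain ⟨k, hk⟩ := MulAction.exists_smul_eq Ct SA SP
  set A := A₀.map (MulAut.conj (k : G)).toMonoidHom with hA
  let D : Duads z A := D₀.map (k : G)
  set S : Subgroup G := (SP : Subgroup Ct).map Ct.subtype with hS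
  have hS2 : IsPGroup 2 S := SP.2.map _
  have hPS : P ≤ S := fun x hx => ⟨⟨x, hXC (map_subtype_le _ hx)⟩, hSP hx, rfl⟩
  have hAS : A ≤ S := by
    rintro _ ⟨x, hx, rfl⟩
    refine ⟨MulAut.conj k • (⟨x, hA₀C hx⟩ : Ct), ?_, rfl⟩
    rw [← hk, Sylow.coe_subgroup_smul]
    exact smul_mem_pointwise_smul _ _ _ (hSA hx)
  have htA : t ∈ A := ⟨t, htA₀, show (k : G) * t * (k : G)⁻¹ = t from
    mul_inv_eq_iff_eq_mul.2 (mem_centralizer_singleton_iff.1 k.2)⟩
  have hSN : S ≤ normalizer (A : Set G) := by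
    obtain ⟨T, hT⟩ := hS2.exists_le_sylow
    rw [eq_thompson hF T (hAS.trans hT) D.sq D.card]
    exact hT.trans (le_normalizer_thompson hF T)
  obtain ⟨a, b, hab, hpt⟩ := D.surj t htA ht1 ht
  have hS19 : Nat.card S ≤ 2 ^ 19 := by
    obtain ⟨n, hn⟩ := hS2.exists_card_eq
    have h := card_dvd_of_le (le_inf hSN (map_subtype_le _) : S ≤ normalizer (A : Set G) ⊓ Ct)
    rw [hCt, ← hpt, card_norm_pair D hab, hn] at h
    rw [hn]
    refine Nat.pow_le_pow_right (by norm_num) ?_
    by_contra hlt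
    have := (Nat.pow_dvd_pow 2 (show 20 ≤ n by omega)).trans h
    norm_num at this
  have hint : 512 ≤ Nat.card ↥(P ⊓ A) := by
    have h := card_sup_mul_inf P A fun x hx y hy => (mem_normalizer_iff.1 (hSN (hPS hx)) y).1 hy
    have h' := (card_le_of_le (sup_le hPS hAS)).trans hS19
    rw [hP17, D.card] at h
    by_contra hlt
    have := Nat.mul_le_mul h' (show Nat.card ↥(P ⊓ A) ≤ 511 by omega)
    omega
  have hEA : E ≤ A := fun x hx => mem_of_large_fixed D (hEsq x hx) (hSN (hPS (hEP hx)))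
    inf_le_right hint fun y hy => by
      have hy' : y ∈ X := map_subtype_le _ hy.1
      rw [mem_centralizer_iff.1 hy' x hx, mul_inv_cancel_right]
  -- coordinates
  obtain ⟨u, huE, hu1, hut⟩ : ∃ u ∈ E, u ≠ 1 ∧ u ≠ t := by
    by_contra h
    push Not at h
    have : Nat.card E ≤ ({1, t} : Set G).ncard := by
      refine le_of_eq_of_le (Nat.card_coe_set_eq (E : Set G)) (Set.ncard_le_ncard ?_ (Set.toFinite _))
      intro x hx
      by_cases h1 : x = 1
      · exact Or.inl h1
      · exact Or.inr (h x hx h1)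
    rw [hE4'] at this
    have := this.trans ((Set.ncard_insert_le _ _).trans (by rw [Set.ncard_singleton]))
    omega
  have hEeq : ∀ x, x ∈ E ↔ x = 1 ∨ x = t ∨ x = u ∨ x = t * u := by
    have htu : t * u ≠ 1 := fun e => hut (by
      rw [← inv_eq_of_mul_eq_one_right ht2]; exact (inv_eq_of_mul_eq_one_right e).symm)
    have hsub : ({1, t, u, t * u} : Set G) ⊆ E := by
      simp [Set.insert_subset_iff, htE, huE, mul_mem htE huE]
    have h4 : ({1, t, u, t * u} : Set G).ncard = 4 := by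
      rw [Set.ncard_insert_of_notMem (by simp [ht1.symm, hu1.symm, htu.symm]),
        Set.ncard_insert_of_notMem (by simp [hut.symm, hu1]), Set.ncard_insert_of_notMem (by simp [ht1]),
        Set.ncard_singleton]
    have heq := Set.eq_of_subset_of_ncard_le hsub (by rw [h4, ← Nat.card_coe_set_eq]; exact hE4'.le)
    intro x
    rw [← SetLike.mem_coe, ← heq]
    simp
  obtain ⟨i, j, hij, hpu⟩ := D.surj u (hEA huE) hu1 (hnz u huE)
  have hshare : i = a ∨ i = b ∨ j = a ∨ j = b := by
    by_contra h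
    push Not at h
    exact hnz _ (mul_mem htE huE) (by
      rw [← hpt, ← hpu]; exact D.conj_of_disjoint a b i j hab hij h.1 h.2.1 h.2.2.1 h.2.2.2)
  have mk : ∀ x y w, x ≠ y → x ≠ w → D.p x y = t → D.p x w = u → Nonempty (Triangle z t) := by
    intro x y w hxy hxw e1 e2
    have hyw : y ≠ w := fun e => hut (by rw [← e2, ← e, e1])
    have hset : Subgroup.centralizer ({t, D.p x w} : Set G) = X := by
      rw [e2]
      refine le_antisymm (fun g hg => mem_centralizer_iff.2 fun v hv => ?_)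
        (centralizer_le (by simp [Set.insert_subset_iff, htE, huE]))
      have h1 := mem_centralizer_iff.1 hg t (Or.inl rfl)
      have h2 := mem_centralizer_iff.1 hg u (Or.inr rfl)
      rcases (hEeq v).1 hv with rfl | rfl | rfl | rfl
      exacts [by group, h1, h2, ((show Commute t g from h1).mul_left h2).eq]
    let ζ := MulEquiv.subgroupCongr hset
    refine ⟨⟨A, D, x, y, w, hxy, hxw, hyw, e1, ?_, K, inferInstance, inferInstance, hK,
      σ.comp ζ.toMonoidHom, hσs.comp ζ.surjective, fun g => ?_⟩⟩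
    · rw [hset]
      exact CfsgLib.Components.isQuasisimple_of_mulEquiv hqs ι.symm
    · rw [MonoidHom.comp_apply, hσk, hEeq]
      simp only [e2]
      rfl
  rcases hshare with rfl | rfl | rfl | rfl
  · exact mk _ _ _ hab hij hpt hpu
  · exact mk _ _ _ (Ne.symm hab) hij (by rw [D.symm]; exact hpt) hpu
  · exact mk _ _ _ hab (Ne.symm hij) hpt (by rw [D.symm]; exact hpu)
  · exact mk _ _ _ (Ne.symm hab) (Ne.symm hij) (by rw [D.symm]; exact hpt) (by rw [D.symm]; exact hpu)

end CfsgLib.FischerTwoFour.InvCent
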