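import Cfsg.Agent.Lib.Presented.Fi22Outer.CsStruct
import Cfsg.Agent.Lib.ThreeTrans.Uniq.AutTop22
import Cfsg.Agent.Lib.ThreeTrans.Inst.FiTwentyTwoModel

/-!
An outer involution of the Fischer group on 22 letters whose centraliser has order divisible by 25, and the
order of the automorphism group.
-/

set_option autoImplicit false
set_option linter.style.haveILetI false

namespace CfsgLib.FischerTwoFour.InvCent

open CfsgLib.Presented.Fi22Outer

/-- The automorphism group of the Fischer group on 22 letters has twice its order. -/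
theorem card_mulAut : Nat.card (MulAut Cfsg.Spor.Fi22) = 2 * Nat.card Cfsg.Spor.Fi22 := by
  haveI := CfsgLib.ThreeTrans.Inst.FiTwentyTwo.finite_fi22
  exact (CfsgLib.ThreeTrans.Uniq.card_mulAut22 CfsgLib.ThreeTrans.Inst.FiTwentyTwo.isGroup
    CfsgLib.ThreeTrans.Inst.FiTwentyTwo.primitive CfsgLib.ThreeTrans.Inst.FiTwentyTwo.typeM22).1

/-- An outer involution with 25 dividing the order of its centraliser. -/
theorem exists_outer_twentyFive : ∃ σ : MulAut Cfsg.Spor.Fi22, σ * σ = 1 ∧
    σ ∉ (MulAut.conj (G := Cfsg.Spor.Fi22)).range ∧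
    25 ∣ Nat.card ↥(Subgroup.centralizer ({σ} : Set (MulAut Cfsg.Spor.Fi22))) := by
  refine ⟨sAut, MulEquiv.ext sAut_sAut, sAut_outer, ?_⟩
  have hmem : ∀ g : ↥Cs, MulAut.conj (g : Cfsg.Spor.Fi22) ∈
      Subgroup.centralizer ({sAut} : Set (MulAut Cfsg.Spor.Fi22)) := fun g =>
    Subgroup.mem_centralizer_singleton_iff.2 (MulEquiv.ext fun y => by
      simp [MulAut.mul_apply, mem_Cs.1 g.2])
  let j : ↥Cs →* ↥(Subgroup.centralizer ({sAut} : Set (MulAut Cfsg.Spor.Fi22))) :=
    (MulAut.conj.comp Cs.subtype).codRestrict _ hmem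
  have hj : Function.Injective j := by
    refine (MonoidHom.ker_eq_bot_iff j).1 ((Subgroup.eq_bot_iff_forall _).2 fun g hg => Subtype.ext ?_)
    have h1 : MulAut.conj (g : Cfsg.Spor.Fi22) = 1 := congrArg Subtype.val (MonoidHom.mem_ker.1 hg)
    have h2 : (g : Cfsg.Spor.Fi22) ∈ Subgroup.center Cfsg.Spor.Fi22 := Subgroup.mem_center_iff.2 fun y => by
      have := congrArg (fun f : MulAut Cfsg.Spor.Fi22 => f y) h1
      simp only [MulAut.conj_apply, MulAut.one_apply] at this
      exact (mul_inv_eq_iff_eq_mul.1 this).symm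
    rwa [CfsgLib.ThreeTrans.Inst.FiTwentyTwo.center_bot, Subgroup.mem_bot] at h2
  refine dvd_trans ?_ (Subgroup.card_dvd_of_injective j hj)
  rw [card_Cs]
  norm_num

end CfsgLib.FischerTwoFour.InvCent
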