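import Cfsg.Agent.Lib.ThreeTrans.FiCent.Index.Extend
import Cfsg.Agent.Lib.ThreeTrans.FiCent.Generation
import Cfsg.Agent.Lib.FischerTwoFour.InvCent.OuterFi22
import Cfsg.Agent.Lib.Presented.Fi22Order
import Mathlib.GroupTheory.Perm.Cycle.Type

/-!
A finite group with an involution whose centraliser has the image of a link as a subgroup of index two: it is the
automorphism group of the Fischer group on 22 letters, provided its order is not divisible by `2 ^ 19`, some
element outside fixes a member, and the involutions of the image have small centralisers.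
-/

set_option autoImplicit false
set_option linter.style.haveILetI false
set_option maxHeartbeats 1000000
set_option maxRecDepth 100000

namespace CfsgLib.FischerTwoFour.InvCent

open Subgroup CfsgLib.Presented CfsgLib.Presented.Fi22Pts CfsgLib.ThreeTrans CfsgLib.ThreeTrans.FiCent
open CfsgLib.ThreeTrans.Inst.FiTwentyTwo (P)

theorem gens_fix : allLt (fun k => Nat.beq (img [k] 0) 0 || Nat.beq (img [k] 154) 154) 9 = true := by
  decide +kernel

/-- The two centralisers of commuting transpositions generate. -/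
theorem two_centralizers_top {x : X} (hx : x ∈ D0) (hxa : x ≠ Inst.FiTwentyTwo.a)
    (hc : Commute x Inst.FiTwentyTwo.a) (K : Subgroup X) (h0 : H0 ≤ K)
    (h1 : centralizer ({x} : Set X) ≤ K) : K = ⊤ := by
  rw [← T_zero] at hxa hc
  obtain ⟨h, e0, e1⟩ := pair_to_std (T_mem 0) hx hxa hc.symm
  have hK : h ∈ K := h0 (mem_H0_iff.2 (show h * T 0 = T 0 * h from mul_inv_eq_iff_eq_mul.1 e0))
  refine top_unique (Fi22UCosets.gen_top ▸ (closure_le _).2 ?_)
  rintro _ ⟨k, hk, rfl⟩
  have hk' : k < 9 := hk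
  have hok : ok [k] = true := by simp [ok, Nat.blt_eq, hk']
  rw [show Fi22UCosets.ev k = el [k] from (el_one k).symm]
  have hcases := allLt_spec gens_fix k hk'
  rw [Bool.or_eq_true] at hcases
  rcases hcases with e | e
  · exact h0 (mem_H0_iff.2 ((commute_el_iff hok (by decide)).2 (Nat.eq_of_beq_eq_true e)))
  · have hc154 := (commute_el_iff hok (p := 154) (by decide)).2 (Nat.eq_of_beq_eq_true e)
    have hm : h⁻¹ * el [k] * h ∈ centralizer ({x} : Set X) := by
      refine mem_centralizer_singleton_iff.2 ?_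
      have := hc154.map (MulAut.conj h⁻¹).toMonoidHom
      simp only [MulEquiv.coe_toMonoidHom, MulAut.conj_apply, inv_inv] at this
      rwa [show h⁻¹ * T 154 * h = x by rw [← e1]; group] at this
    have := mul_mem (mul_mem hK (h1 hm)) (inv_mem hK)
    rwa [show h * (h⁻¹ * el [k] * h) * h⁻¹ = el [k] by group] at this

variable {W : Type*} [Group W] [Finite W] {d : W} {θ : ↥H0 →* W}

theorem iso_mulAut (L : Index.Link d θ) (h2 : ¬ 2 ^ 19 ∣ Nat.card W) (n : W) (hn : Commute n d)
    (hnθ : n ∉ θ.range) (hf : ∃ x : ↥H0, (x : X) ∈ D0 ∧ x ≠ aH ∧ n * θ x * n⁻¹ = θ x)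
    (hC : ∀ g, Commute g d → g ∈ θ.range ∨ n⁻¹ * g ∈ θ.range)
    (hinv : ∀ x : ↥H0, x * x = 1 → x ≠ 1 → ¬ 25 ∣ Nat.card ↥(Subgroup.centralizer ({θ x} : Set W))) :
    Nonempty (W ≃* MulAut Cfsg.Spor.Fi22) := by
  classical
  haveI := finite_X
  haveI hsimp : IsSimpleGroup X := Fi22Simple.simple
  have hd : d ≠ 1 := fun e => by
    have := L.inj (a₁ := aH) (a₂ := 1) (by rw [L.base, map_one, e])
    exact D0_ne_one (T_mem 0) (by rw [T_zero]; exact congrArg Subtype.val this)
  obtain ⟨φ, hinj, hφa, hφθ, hmaps⟩ := Index.exists_embedding L hd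
  set H : Subgroup W := φ.range with hH
  have hθH : θ.range ≤ H := by
    rintro _ ⟨x, rfl⟩
    exact ⟨x, hφθ x⟩
  have hcomm : ∀ v : X, Commute (φ v) d → v ∈ H0 := fun v hv => mem_H0_iff.2 (hinj (by
    rw [map_mul, map_mul, T_zero, hφa]; exact hv.eq))
  have hHd : ∀ {g : W}, g ∈ H → Commute g d → g ∈ θ.range := by
    rintro _ ⟨v, rfl⟩ hv
    exact ⟨⟨v, hcomm v hv⟩, (hφθ ⟨v, hcomm v hv⟩).symm⟩
  have hnH : n ∉ H := fun h => hnθ (hHd h hn)
  -- the element normalises the copy
  obtain ⟨x, hxD, hxa, hxf⟩ := hf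
  have hxa' : (x : X) ≠ Inst.FiTwentyTwo.a := fun e => hxa (Subtype.ext e)
  have hnn : ∀ v : X, n * φ v * n⁻¹ ∈ H := by
    have hK : ∀ v, v ∈ H.comap ((MulAut.conj n).toMonoidHom.comp φ) ↔ n * φ v * n⁻¹ ∈ H := fun v => Iff.rfl
    intro v
    refine (hK v).1 ((two_centralizers_top hxD hxa' (mem_centralizer_singleton_iff.1 x.2)
      (H.comap ((MulAut.conj n).toMonoidHom.comp φ)) (fun y hy => (hK y).2 ?_) (fun y hy => (hK y).2 ?_)).symm ▸
      mem_top v)
    · obtain ⟨y', hy'⟩ := L.normal n hn ⟨y, hy⟩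
      rw [show φ y = θ ⟨y, hy⟩ from hφθ ⟨y, hy⟩, hy']
      exact hθH ⟨y', rfl⟩
    · obtain ⟨k, hk⟩ := P.cls _ (T_mem 0) _ hxD
      rw [T_zero] at hk
      have hg : φ k * d * (φ k)⁻¹ = θ x := by
        rw [← hφθ, ← hk, map_mul, map_mul, map_inv, hφa]
      have hy0 : k⁻¹ * y * k ∈ H0 := by
        refine mem_centralizer_singleton_iff.2 ?_
        have := (show Commute y (x : X) from mem_centralizer_singleton_iff.1 hy).map (MulAut.conj k⁻¹).toMonoidHom
        simp only [MulEquiv.coe_toMonoidHom, MulAut.conj_apply, inv_inv] at this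
        rwa [show k⁻¹ * (x : X) * k = Inst.FiTwentyTwo.a by rw [← hk]; group] at this
      have hz : φ y ∈ Index.Nd d θ (θ x) := ⟨φ k, hg, ⟨_, hy0⟩, by
        rw [← hφθ, ← map_inv, ← map_mul, ← map_mul]; exact congrArg φ (by group)⟩
      have hz' := (Index.Nd_conj n).2 hz
      rw [hxf] at hz'
      obtain ⟨y', hy'⟩ := L.Nd_rep hg hz'
      rw [hy', ← hφθ, ← map_inv, ← map_mul, ← map_mul]
      exact ⟨_, rfl⟩
  have hn2 : n * n ∈ θ.range := (hC _ (Commute.mul_left hn hn)).resolve_right fun h => hnθ (by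
    rwa [inv_mul_cancel_left] at h)
  have hn2H : n * n ∈ H := hθH hn2
  have hconj : ∀ {g : W}, g ∈ H → n * g * n⁻¹ ∈ H := by
    rintro _ ⟨v, rfl⟩
    exact hnn v
  have hconj' : ∀ {g : W}, g ∈ H → n⁻¹ * g * n ∈ H := fun {g} hg => by
    have := mul_mem (mul_mem (inv_mem hn2H) (hconj hg)) hn2H
    rwa [show (n * n)⁻¹ * (n * g * n⁻¹) * (n * n) = n⁻¹ * g * n by group] at this
  let R : Subgroup W :=
    { carrier := {g | g ∈ H ∨ n⁻¹ * g ∈ H}
      one_mem' := Or.inl (one_mem H)
      mul_mem' := by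
        rintro a b (ha | ha) (hb | hb)
        · exact Or.inl (mul_mem ha hb)
        · refine Or.inr ?_
          rw [show n⁻¹ * (a * b) = (n⁻¹ * a * n) * (n⁻¹ * b) by group]
          exact mul_mem (hconj' ha) hb
        · refine Or.inr ?_
          rw [← mul_assoc]
          exact mul_mem ha hb
        · refine Or.inl ?_
          rw [show a * b = n * n * (n⁻¹ * (n⁻¹ * a) * n) * (n⁻¹ * b) by group]
          exact mul_mem (mul_mem hn2H (hconj' ha)) hb
      inv_mem' := by
        rintro a (ha | ha)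
        · exact Or.inl (inv_mem ha)
        · refine Or.inr ?_
          rw [show n⁻¹ * a⁻¹ = n⁻¹ * (n⁻¹ * a)⁻¹ * n * (n * n)⁻¹ by group]
          exact mul_mem (hconj' (inv_mem ha)) (inv_mem hn2H) }
  have hHR : H ≤ R := fun g hg => Or.inl hg
  have hnR : n ∈ R := Or.inr (by rw [inv_mul_cancel]; exact one_mem H)
  have hHn : ∀ g ∈ R, ∀ v : X, g * φ v * g⁻¹ ∈ H := by
    rintro g (hg | hg) v
    · exact mul_mem (mul_mem hg ⟨v, rfl⟩) (inv_mem hg)
    · rw [show g * φ v * g⁻¹ = n * ((n⁻¹ * g) * φ v * (n⁻¹ * g)⁻¹) * n⁻¹ by group]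
      exact hconj (mul_mem (mul_mem hg ⟨v, rfl⟩) (inv_mem hg))
  -- conjugation on the copy
  have hpre : ∀ (g : ↥R) (v : X), ∃ w, φ w = (g : W) * φ v * (g : W)⁻¹ := fun g v => hHn g g.2 v
  choose c hc using hpre
  have hcmul : ∀ g v v', c g (v * v') = c g v * c g v' := fun g v v' => hinj (by
    rw [map_mul, hc, hc, hc, map_mul]; group)
  have hcinv : ∀ g v, c g⁻¹ (c g v) = v := fun g v => hinj (by rw [hc, hc, Subgroup.coe_inv]; group)
  let cA : ↥R → MulAut X := fun g =>
    { toFun := c g, invFun := c g⁻¹, left_inv := hcinv g,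
      right_inv := fun v => by simpa using hcinv g⁻¹ v
      map_mul' := hcmul g }
  let κ : ↥R →* MulAut X := MonoidHom.mk' cA fun g g' => MulEquiv.ext fun v => hinj (by
    show φ (c (g * g') v) = φ (c g (c g' v))
    rw [hc, hc, hc, Subgroup.coe_mul]; group)
  have hκinj : Function.Injective κ := by
    refine (injective_iff_map_eq_one κ).2 fun g hg => ?_
    have hg' : ∀ v, Commute (g : W) (φ v) := fun v => by
      have h := congrArg φ (show c g v = v from congrArg (fun f : MulAut X => f v) hg)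
      rw [hc] at h
      exact mul_inv_eq_iff_eq_mul.1 h
    have hgd : Commute (g : W) d := hφa ▸ hg' _
    rcases L.kill g hgd (fun y => hφθ y ▸ hg' y) with e | e
    · exact Subtype.ext e
    · exfalso
      have hce : Inst.FiTwentyTwo.a ∈ center X := mem_center_iff.2 fun v => hinj (by
        rw [map_mul, map_mul, hφa, ← e]; exact (hg' v).symm.eq)
      rw [Inst.FiTwentyTwo.center_bot, mem_bot] at hce
      exact D0_ne_one (T_mem 0) (by rw [T_zero]; exact hce)
  have hcardH : Nat.card ↥H = Nat.card X := (Nat.card_congr (MonoidHom.ofInjective hinj).toEquiv).symm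
  have hRidx : (H.subgroupOf R).index = 2 := by
    rw [index_eq_two_iff]
    refine ⟨⟨n, hnR⟩⁻¹, fun b => ?_⟩
    show Xor ((b : W) * n⁻¹ ∈ H) ((b : W) ∈ H)
    rcases b.2 with hb | hb
    · refine Or.inr ⟨hb, fun h => hnH ?_⟩
      have := mul_mem (inv_mem h) hb
      rwa [show ((b : W) * n⁻¹)⁻¹ * b = n by group] at this
    · refine Or.inl ⟨?_, fun h => hnH ?_⟩
      · rw [show (b : W) * n⁻¹ = n * (n⁻¹ * b) * n⁻¹ by group]; exact hconj hb
      · have := mul_mem h (inv_mem hb)
        rwa [show (b : W) * (n⁻¹ * b)⁻¹ = n by group] at this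
  have hcardR : Nat.card ↥R = 2 * Nat.card X := by
    have := (H.subgroupOf R).card_mul_index
    rw [hRidx, Nat.card_congr (subgroupOfEquivOfLe hHR).toEquiv, hcardH] at this
    omega
  haveI : Finite (MulAut X) := Finite.of_injective (fun f => (f : X → X)) DFunLike.coe_injective
  have hκb : Function.Bijective κ := (Nat.bijective_iff_injective_and_card κ).2
    ⟨hκinj, by rw [hcardR]; exact card_mulAut.symm⟩
  let e : ↥R ≃* MulAut X := MulEquiv.ofBijective κ hκb
  -- an outer involution with a large centraliser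
  obtain ⟨σ, hσ2, hσout, hσ25⟩ := exists_outer_twentyFive
  set s : ↥R := e.symm σ with hs
  have hs2 : (s : W) * s = 1 := by
    rw [← Subgroup.coe_mul, hs, ← map_mul, hσ2, map_one, Subgroup.coe_one]
  have hsH : (s : W) ∉ H := by
    rintro ⟨w, hw⟩
    refine hσout ⟨w, ?_⟩
    have hes : κ s = σ := e.apply_symm_apply σ
    rw [← hes]
    refine MulEquiv.ext fun v => hinj ?_
    show φ (w * v * w⁻¹) = φ (c s v)
    rw [map_mul, map_mul, map_inv, hw, hc]
  have hs25 : 25 ∣ Nat.card ↥(centralizer ({(s : W)} : Set W)) := by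
    refine hσ25.trans ?_
    have hm : ∀ u : ↥(centralizer ({σ} : Set (MulAut X))), ((e.symm u : ↥R) : W) ∈ centralizer ({(s : W)} : Set W) :=
      fun u => mem_centralizer_singleton_iff.2 (by
        rw [hs, ← Subgroup.coe_mul, ← Subgroup.coe_mul, ← map_mul, ← map_mul, mem_centralizer_singleton_iff.1 u.2])
    refine card_dvd_of_injective (((R.subtype.comp e.symm.toMonoidHom).comp
      (centralizer ({σ} : Set (MulAut X))).subtype).codRestrict _ hm) fun u u' h => ?_
    exact Subtype.ext (e.symm.injective (Subtype.ext (congrArg (fun t : ↥(centralizer ({(s : W)} : Set W)) => (t : W)) h)))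
  have hfree : ∀ g : W, g⁻¹ * s * g ∉ H := by
    rintro g ⟨v, hv⟩
    have hs1 : (s : W) ≠ 1 := fun h => hsH (h ▸ one_mem H)
    have hv2 : v * v = 1 := hinj (by
      rw [map_mul, hv, map_one, show g⁻¹ * (s : W) * g * (g⁻¹ * s * g) = g⁻¹ * (s * s) * g by group, hs2, mul_one,
        inv_mul_cancel])
    obtain ⟨t, ht, htv⟩ := member_fix hv2
    obtain ⟨k, hk⟩ := P.cls t ht _ (T_mem 0)
    have hkv : k * v * k⁻¹ ∈ H0 := mem_H0_iff.2 (by
      rw [← hk]; exact htv.map (MulAut.conj k).toMonoidHom)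
    refine hinv ⟨_, hkv⟩ (Subtype.ext ?_) (fun h => ?_) ?_
    · show k * v * k⁻¹ * (k * v * k⁻¹) = 1
      rw [show k * v * k⁻¹ * (k * v * k⁻¹) = k * (v * v) * k⁻¹ by group, hv2, mul_one, mul_inv_cancel]
    · have hv1 : v = 1 := conj_eq_one_iff.1 (congrArg Subtype.val h)
      rw [hv1, map_one] at hv
      exact hs1 (by rw [show (s : W) = g * (g⁻¹ * s * g) * g⁻¹ by group, ← hv, mul_one, mul_inv_cancel])
    · have hθv : θ ⟨_, hkv⟩ = (φ k * g⁻¹) * s * (φ k * g⁻¹)⁻¹ := by
        rw [← hφθ, map_mul, map_mul, map_inv, hv]; group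
      rw [hθv]
      refine hs25.trans (dvd_of_eq ?_)
      refine Nat.card_congr ((MulAut.conj (φ k * g⁻¹)).toEquiv.subtypeEquiv fun u => ?_)
      rw [mem_centralizer_singleton_iff, mem_centralizer_singleton_iff]
      show _ ↔ MulAut.conj (φ k * g⁻¹) u * MulAut.conj (φ k * g⁻¹) (s : W) =
        MulAut.conj (φ k * g⁻¹) (s : W) * MulAut.conj (φ k * g⁻¹) u
      rw [← map_mul, ← map_mul]
      exact ⟨fun h => by rw [h], fun h => (MulAut.conj _).injective h⟩
  -- the sign on the cosets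
  haveI := Fintype.ofFinite (W ⧸ H)
  let sgn : W →* ℤˣ := Equiv.Perm.sign.comp (MulAction.toPermHom W (W ⧸ H))
  have hsgnH : H ≤ sgn.ker := by
    rintro _ ⟨v, rfl⟩
    rcases (sgn.comp φ).normal_ker.eq_bot_or_eq_top with hk | hk
    · exfalso
      have hi : Function.Injective (sgn.comp φ) := (MonoidHom.ker_eq_bot_iff _).1 hk
      have := Nat.card_le_card_of_injective _ hi
      rw [Fi22Order.card_eq, Nat.card_eq_fintype_card, Fintype.card_units_int] at this
      norm_num at this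
    · exact MonoidHom.mem_ker.1 (show v ∈ (sgn.comp φ).ker by rw [hk]; exact mem_top v)
  have hm2 : ∃ m, Odd m ∧ H.index = 2 * m := by
    refine ⟨R.index, ?_, ?_⟩
    · rw [Nat.odd_iff]
      by_contra h
      have hdvd : 2 ∣ R.index := by omega
      refine h2 ?_
      rw [← R.card_mul_index, hcardR, Fi22Order.card_eq]
      obtain ⟨j, hj⟩ := hdvd
      exact ⟨492567075 * j, by rw [hj]; ring⟩
    · rw [← relIndex_mul_index hHR, relIndex, hRidx]
  obtain ⟨m, hmodd, hm⟩ := hm2
  have hsgns : sgn s = -1 := by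
    set π : Equiv.Perm (W ⧸ H) := MulAction.toPermHom W (W ⧸ H) s with hπ
    have hπ2 : π ^ 2 = 1 := by
      rw [hπ, ← map_pow, pow_two, hs2, map_one]
    have hsupp : π.support = Finset.univ := by
      refine Finset.eq_univ_iff_forall.2 fun q => Equiv.Perm.mem_support.2 fun hq => ?_
      induction q using QuotientGroup.induction_on with
      | H g =>
        refine hfree g ?_
        have hq' : QuotientGroup.mk ((s : W) * g) = (QuotientGroup.mk g : W ⧸ H) := hq
        have := inv_mem (QuotientGroup.eq.1 hq')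
        rwa [show (((s : W) * g)⁻¹ * g)⁻¹ = g⁻¹ * s * g by group] at this
    have hct : π.cycleType = Multiset.replicate m 2 := by
      refine Multiset.eq_replicate.2 ⟨?_, fun k hk => ?_⟩
      · have hsum := π.sum_cycleType
        rw [hsupp, Finset.card_univ, ← Nat.card_eq_fintype_card, show Nat.card (W ⧸ H) = H.index from rfl, hm] at hsum
        have hall : π.cycleType = Multiset.replicate π.cycleType.card 2 := by
          refine Multiset.eq_replicate.2 ⟨rfl, fun k hk => ?_⟩
          have h1 := Equiv.Perm.two_le_of_mem_cycleType hk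
          have h2' := (Equiv.Perm.dvd_of_mem_cycleType hk).trans (orderOf_dvd_of_pow_eq_one hπ2)
          exact le_antisymm (Nat.le_of_dvd (by norm_num) h2') h1
        rw [hall, Multiset.sum_replicate, smul_eq_mul] at hsum
        omega
      · have h1 := Equiv.Perm.two_le_of_mem_cycleType hk
        have h2' := (Equiv.Perm.dvd_of_mem_cycleType hk).trans (orderOf_dvd_of_pow_eq_one hπ2)
        exact le_antisymm (Nat.le_of_dvd (by norm_num) h2') h1
    show Equiv.Perm.sign π = -1
    rw [Equiv.Perm.sign_of_cycleType, hct, Multiset.sum_replicate, Multiset.card_replicate, smul_eq_mul,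
      Odd.neg_one_pow (by
        rw [Nat.odd_iff] at hmodd ⊢
        omega)]
  set W1 : Subgroup W := sgn.ker with hW1
  have hnW1 : n ∉ W1 := by
    intro hn1
    have hsW1 : (s : W) ∈ W1 := by
      rcases s.2 with h | h
      · exact absurd h hsH
      · rw [show (s : W) = n * (n⁻¹ * s) by group]
        exact mul_mem hn1 (hsgnH h)
    rw [hW1, MonoidHom.mem_ker, hsgns] at hsW1
    exact absurd hsW1 (by decide)
  -- inside the kernel the copy is everything
  have hdW : d ∈ W1 := hφa ▸ hsgnH ⟨_, rfl⟩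
  let φ1 : X →* ↥W1 := φ.codRestrict W1 fun v => hsgnH ⟨v, rfl⟩
  have hmem : ∀ y : ↥H0, (φ1 y) ∈ Cd (⟨d, hdW⟩ : ↥W1) := fun y => mem_centralizer_singleton_iff.2 (Subtype.ext (by
    show φ y * d = d * φ y
    rw [← hφa, ← map_mul, ← map_mul, mem_centralizer_singleton_iff.1 y.2]))
  let θ0 : ↥H0 →* ↥(Cd (⟨d, hdW⟩ : ↥W1)) := (φ1.comp H0.subtype).codRestrict _ hmem
  have hθ0 : Function.Bijective θ0 := by
    refine ⟨fun y y' h => Subtype.ext (hinj (congrArg (fun t : ↥(Cd (⟨d, hdW⟩ : ↥W1)) => ((t : ↥W1) : W)) h)), ?_⟩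
    rintro ⟨⟨g, hg1⟩, hg⟩
    have hgd : Commute g d := congrArg Subtype.val (mem_centralizer_singleton_iff.1 hg)
    rcases hC g hgd with ⟨y, hy⟩ | ⟨y, hy⟩
    · exact ⟨y, Subtype.ext (Subtype.ext ((hφθ y).trans hy))⟩
    · exfalso
      refine hnW1 ?_
      have h1 := mul_mem hg1 (inv_mem (hsgnH (hθH ⟨y, hy⟩)))
      rwa [show g * (n⁻¹ * g)⁻¹ = n by group] at h1
  let θ1 : ↥H0 ≃* ↥(Cd (⟨d, hdW⟩ : ↥W1)) := MulEquiv.ofBijective θ0 hθ0
  have hcls : ∀ v : X, v ∈ D0 → φ1 v ∈ conjugatesOf (⟨d, hdW⟩ : ↥W1) := fun v hv => by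
    obtain ⟨k, hk⟩ := P.cls _ (T_mem 0) v hv
    refine isConj_iff.2 ⟨φ1 k, Subtype.ext ?_⟩
    show φ k * d * (φ k)⁻¹ = φ v
    rw [← hk, map_mul, map_mul, map_inv, T_zero, hφa]
  have E : Emb (⟨d, hdW⟩ : ↥W1) θ1 φ1 := by
    refine ⟨⟨Subtype.ext hφa, fun y => ⟨fun h => ?_, fun h => hcls _ h⟩⟩, fun v v' h =>
      hinj (congrArg Subtype.val h), fun y => rfl, hcls⟩
    obtain ⟨g, hg⟩ := isConj_iff.1 h
    refine (L.cls y).1 (isConj_iff.2 ⟨g, ?_⟩)
    have := congrArg Subtype.val hg
    exact (show (g : W) * d * (g : W)⁻¹ = φ y from this).trans (hφθ y)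
  have hW1H : W1 = H := le_antisymm (fun g hg => by
    obtain ⟨v, hv⟩ := E.surjective ⟨g, hg⟩
    exact ⟨v, congrArg Subtype.val hv⟩) hsgnH
  have hRtop : R = ⊤ := by
    refine top_unique fun g _ => ?_
    by_cases hg : g ∈ W1
    · exact hHR (hW1H ▸ hg)
    · refine Or.inr (hW1H ▸ ?_)
      rw [hW1, MonoidHom.mem_ker, map_mul, map_inv]
      have h1 : sgn g = -1 := (Int.units_eq_one_or _).resolve_left hg
      have h2' : sgn n = -1 := (Int.units_eq_one_or _).resolve_left hnW1
      rw [h1, h2', inv_mul_cancel]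
  exact ⟨(Subgroup.topEquiv.symm.trans (MulEquiv.subgroupCongr hRtop.symm)).trans e⟩

end CfsgLib.FischerTwoFour.InvCent
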