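import Cfsg.Agent.Lib.FischerTwoFour.InvCent.Cent
import Cfsg.Agent.Lib.FischerTwoFour.InvCent.FromLink
import Cfsg.Agent.Lib.FischerTwoFour.InvCent.FStar
import Cfsg.Agent.Lib.FischerTwoFour.OuterInv.Main

/-!
Large Fischer type: from the four-group with unitary centraliser, the centraliser of an involution of `Q`
outside the class of `z` is the double cover of the Fischer group on 22 letters extended by its outer
automorphism.
-/

set_option autoImplicit false
set_option linter.style.haveILetI false

namespace CfsgLib.FischerTwoFour.InvCent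

open Subgroup

universe u

/-- The centraliser of a non-central involution of `Q`. -/
theorem fischerTwoFourCentralizer (h5449 : LargeFischerFourGroup.{u}) :
    OuterInv.FischerTwoFourCentralizer.{u} := by
  intro G _ _ z Q _ hF t htQ ht2o ht K hK _
  classical
  haveI : IsSimpleGroup Cfsg.Spor.Fi22 := CfsgLib.Presented.Fi22Simple.simple
  haveI := CfsgLib.ThreeTrans.Inst.FiTwentyTwo.finite_fi22
  have ht2 : t * t = 1 := by rw [← pow_two, ← ht2o]; exact pow_orderOf_eq_one t
  have ht1 : t ≠ 1 := fun e => by rw [e, orderOf_one] at ht2o; omega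
  have htQ' : t ∈ Q.map (Subgroup.centralizer ({z} : Set G)).subtype := by
    obtain ⟨htc, hm⟩ := htQ
    exact ⟨⟨t, htc⟩, hm, rfl⟩
  obtain ⟨Tr⟩ := exists_triangle h5449 hF htQ' ht2 ht1 ht
  set C := Subgroup.centralizer ({t} : Set G)
  set Tn := (Subgroup.zpowers t).subgroupOf C
  have htC : t ∈ C := mem_centralizer_singleton_iff.2 rfl
  have hmem : ∀ x : C, x ∈ Tn ↔ ((x : G) = 1 ∨ (x : G) = t) := by
    intro x
    rw [mem_subgroupOf, mem_zpowers_iff]
    constructor
    · rintro ⟨k, hk⟩
      rw [← hk, ← zpow_mod_orderOf, ht2o]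
      rcases Int.emod_two_eq k with h | h <;> simp [h]
    · rintro (e | e)
      · exact ⟨0, by rw [e, zpow_zero]⟩
      · exact ⟨1, by rw [e, zpow_one]⟩
  obtain ⟨d, θ, L, -, h2, n, hn, hnθ, hf, hC, hinv⟩ := exists_link Tr (QuotientGroup.mk' Tn) hF
    (QuotientGroup.mk'_surjective Tn) (fun x => (QuotientGroup.eq_one_iff x).trans (hmem x))
  obtain ⟨e⟩ := iso_mulAut L h2 n hn hnθ hf hC hinv
  have hcen : Tn ≤ center C := fun x hx => mem_center_iff.2 fun g => Subtype.ext (by
    rcases (hmem x).1 hx with e' | e'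
    · show (g : G) * x = x * g
      rw [e', mul_one, one_mul]
    · show (g : G) * x = x * g
      rw [e']
      exact mem_centralizer_singleton_iff.1 g.2)
  have hidx : (MulAut.conj (G := Cfsg.Spor.Fi22)).range.index = 2 := by
    have hinj : Function.Injective (MulAut.conj (G := Cfsg.Spor.Fi22)) := by
      refine (MonoidHom.ker_eq_bot_iff _).1 ((Subgroup.eq_bot_iff_forall _).2 fun x hx => ?_)
      have hxc : x ∈ center Cfsg.Spor.Fi22 := mem_center_iff.2 fun y => by
        have := congrArg (fun σ : MulAut Cfsg.Spor.Fi22 => σ y) (MonoidHom.mem_ker.1 hx)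
        simp only [MulAut.conj_apply, MulAut.one_apply] at this
        exact (mul_inv_eq_iff_eq_mul.1 this).symm
      rwa [CfsgLib.ThreeTrans.Inst.FiTwentyTwo.center_bot, mem_bot] at hxc
    have h := (MulAut.conj (G := Cfsg.Spor.Fi22)).range.card_mul_index
    rw [← Nat.card_congr (MonoidHom.ofInjective hinj).toEquiv, card_mulAut, mul_comm 2] at h
    exact Nat.eq_of_mul_eq_mul_left Nat.card_pos h
  have hXC : Subgroup.centralizer ({t, Tr.D.p Tr.a Tr.c} : Set G) ≤ C := centralizer_le (by simp)
  obtain ⟨hq, hi, hle⟩ := fStar_of_extension CfsgLib.ThreeTrans.Inst.FiTwentyTwo.center_bot Tn hcen e hidx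
    ((Subgroup.centralizer ({t, Tr.D.p Tr.a Tr.c} : Set G)).subgroupOf C)
    (CfsgLib.Components.isQuasisimple_of_mulEquiv Tr.quasi (subgroupOfEquivOfLe hXC).symm).1
    (fun x hx => by
      rw [mem_subgroupOf, mem_centralizer_iff]
      intro y hy
      have hcy : Commute y t := by
        rcases hy with rfl | rfl
        · exact Commute.refl _
        · exact Tr.D.comm _ (Tr.D.mem _ _) _ Tr.t_mem
      rcases (hmem x).1 hx with e' | e' <;> rw [e']
      · exact (Commute.one_right y).eq
      · exact hcy.eq)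
  rw [hK]
  exact ⟨hq, hi, ⟨htC, hle ((hmem ⟨t, htC⟩).2 (Or.inr rfl))⟩, ⟨e⟩⟩

end CfsgLib.FischerTwoFour.InvCent
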